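import Mathlib.GroupTheory.SpecificGroups.Alternating
import Mathlib.Data.ZMod.Basic
import Mathlib.Data.Complex.Basic
import Mathlib.Algebra.BigOperators.Fin
import Mathlib.Tactic.FinCases
import Mathlib.Tactic.Ring
import Mathlib.GroupTheory.GroupAction.FixedPoints

/-! Computations in `A₅` and `Z₂ × A₅`. -/

set_option autoImplicit false

namespace JK

open Equiv

/-- the alternating group of degree five -/
abbrev A5 := alternatingGroup (Fin 5)
/-- the centralizer of an involution -/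
abbrev KK5 := Multiplicative (ZMod 2) × A5

/-- a double transposition -/
def v5 : A5 := ⟨swap 0 1 * swap 2 3, Perm.mem_alternatingGroup.mpr (by decide)⟩
/-- a three-cycle -/
def y5 : A5 := ⟨swap 0 1 * swap 1 2, Perm.mem_alternatingGroup.mpr (by decide)⟩
/-- a five-cycle -/
def z5 : A5 := ⟨swap 0 1 * swap 1 2 * (swap 2 3 * swap 3 4), Perm.mem_alternatingGroup.mpr (by decide)⟩
/-- the generator of `Z₂` -/
def o2 : Multiplicative (ZMod 2) := Multiplicative.ofAdd 1
/-- the central involution -/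
def tau : KK5 := (o2, 1)

/-- class representatives -/
def rep5 : Fin 5 → A5 := ![1, v5, y5, z5, z5 * z5]

/-- the class of an element -/
def cls5 (x : A5) : Fin 5 :=
  if x = 1 then 0 else if x * x = 1 then 1 else if x * x * x = 1 then 2 else
    if ∃ g : A5, g * z5 = x * g then 3 else 4

theorem cls5_conj : ∀ x : A5, ∃ g : A5, g * rep5 (cls5 x) = x * g := by decide +kernel

theorem cls5_card : ∀ i : Fin 5, (Finset.univ.filter fun x => cls5 x = i).card =
    ![1, 15, 20, 12, 12] i := by decide +kernel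

theorem eq_rep {β : Type*} {f : A5 → β} (hf : ∀ g h, f (h * g * h⁻¹) = f g) (x : A5) :
    f x = f (rep5 (cls5 x)) := by
  obtain ⟨g, hg⟩ := cls5_conj x
  rw [← hf (rep5 (cls5 x)) g, hg, mul_inv_cancel_right]

theorem sumA {f : A5 → ℂ} (hf : ∀ g h, f (h * g * h⁻¹) = f g) :
    ∑ x, f x = f 1 + 15 * f v5 + 20 * f y5 + 12 * f z5 + 12 * f (z5 * z5) := by
  rw [← Finset.sum_fiberwise Finset.univ cls5]
  have : ∀ i : Fin 5, ∑ x with cls5 x = i, f x = (![1, 15, 20, 12, 12] i : ℕ) * f (rep5 i) := by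
    intro i
    rw [← cls5_card, ← nsmul_eq_mul, ← Finset.sum_const]
    refine Finset.sum_congr rfl fun x hx => ?_
    rw [eq_rep hf x, (Finset.mem_filter.mp hx).2]
  simp only [this, Fin.sum_univ_five, rep5]
  simp

theorem o2_cases : ∀ e : Multiplicative (ZMod 2), e = 1 ∨ e = o2 := by decide
theorem o2_ne : o2 ≠ 1 := by decide
theorem o2_sq : o2 * o2 = 1 := by decide

theorem class_snd {β : Type*} {f : KK5 → β} (hf : ∀ g h, f (h * g * h⁻¹) = f g)
    (e : Multiplicative (ZMod 2)) (g h : A5) : f (e, h * g * h⁻¹) = f (e, g) := by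
  rw [← hf (e, g) (1, h)]; simp

theorem sumK' (f : KK5 → ℂ) : ∑ k, f k = ∑ x, f (1, x) + ∑ x, f (o2, x) := by
  rw [Fintype.sum_prod_type]
  have : (Finset.univ : Finset (Multiplicative (ZMod 2))) = {1, o2} := by decide
  rw [this, Finset.sum_pair o2_ne.symm]

theorem sumK {f : KK5 → ℂ} (hf : ∀ g h, f (h * g * h⁻¹) = f g) :
    ∑ k, f k = (f (1, 1) + 15 * f (1, v5) + 20 * f (1, y5) + 12 * f (1, z5) +
      12 * f (1, z5 * z5)) + (f (o2, 1) + 15 * f (o2, v5) + 20 * f (o2, y5) + 12 * f (o2, z5) +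
      12 * f (o2, z5 * z5)) := by
  rw [sumK', sumA (class_snd hf 1), sumA (class_snd hf o2)]

theorem card_A5 : Fintype.card A5 = 60 := by decide +kernel

theorem card_K : Nat.card KK5 = 120 := by
  rw [Nat.card_eq_fintype_card, Fintype.card_prod, card_A5]; rfl

/-- representatives of the classes in the section of the central involution -/
def R4 : Fin 4 → KK5 := ![(o2, 1), (o2, y5), (o2, z5), (o2, z5 * z5)]

theorem R4_pow : ∀ i, R4 i ^ 15 = tau := by decide +kernel
theorem R4_conj : ∀ i j, ∀ g : KK5, g * R4 i = R4 j * g → i = j := by decide +kernel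
theorem R4_real : ∀ i, ∃ g : KK5, g * R4 i = (R4 i)⁻¹ * g := by decide +kernel
theorem R4_cen : ∀ i, (Finset.univ.filter fun g : KK5 => R4 i * g = g * R4 i).card =
    ![120, 6, 10, 10] i := by decide +kernel
theorem R4_pairs : ∀ i, (Finset.univ.filter fun a : KK5 => a * a = 1 ∧ a ≠ 1 ∧
    (a * R4 i) * (a * R4 i) = 1 ∧ a * R4 i ≠ 1).card = ![30, 6, 10, 10] i := by decide +kernel
theorem R4_snd : ∀ i, (R4 i).2 ^ 15 = 1 ∧ R4 i = tau * (1, (R4 i).2) := by decide +kernel
theorem y5_pow : y5 ^ 3 = 1 := by decide +kernel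
theorem z5_pow : z5 ^ 5 = 1 := by decide +kernel
theorem v5_sq : v5 * v5 = 1 := by decide +kernel
theorem v5_ne : v5 ≠ 1 := by decide +kernel
theorem y5_real : ∃ g : A5, g * y5 = y5⁻¹ * g := by decide +kernel
theorem z5_real : ∃ g : A5, g * z5 = z5⁻¹ * g := by decide +kernel
theorem R2_pow : R4 2 ^ 10 = 1 ∧ R4 2 ^ 7 = R4 3 ∧ R4 1 ^ 6 = 1 ∧ R4 2 ^ 6 = (1, z5) ∧
    R4 2 ^ 2 = (1, z5 * z5) ∧ z5 ^ 7 = z5 * z5 := by decide +kernel
theorem pow15 : ((1 : Multiplicative (ZMod 2)), (1 : A5)) ^ 15 ≠ tau ∧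
    ((1 : Multiplicative (ZMod 2)), v5) ^ 15 ≠ tau ∧ ((1 : Multiplicative (ZMod 2)), y5) ^ 15 ≠ tau ∧
    ((1 : Multiplicative (ZMod 2)), z5) ^ 15 ≠ tau ∧
    ((1 : Multiplicative (ZMod 2)), z5 * z5) ^ 15 ≠ tau ∧ (o2, v5) ^ 15 ≠ tau := by decide +kernel
theorem pow_tau : ∀ k : KK5, k ^ 30 = 1 ∧ (k ^ 15 = tau ∨ k ^ 15 = 1 ∨ k * k = 1) := by
  decide +kernel
theorem card_V4 : (Finset.univ.filter fun g : KK5 => (1, v5) * g = g * (1, v5)).card = 8 := by
  decide +kernel
theorem V4_sq : ∀ g : KK5, (1, v5) * g = g * (1, v5) → g * g = 1 := by decide +kernel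

/-- the number of fixed points -/
def fx (x : A5) : ℕ := (Finset.univ.filter fun i : Fin 5 => x.1 i = i).card

theorem fx_val : fx 1 = 5 ∧ fx v5 = 1 ∧ fx y5 = 2 ∧ fx z5 = 0 ∧ fx (z5 * z5) = 0 := by
  decide +kernel

theorem fx_V4 : ∀ g : KK5, (1, v5) * g = g * (1, v5) → fx g.2 = if g.2 = 1 then 5 else 1 := by
  decide +kernel

theorem card_fixedBy (x : A5) : Nat.card (MulAction.fixedBy (Fin 5) x) = fx x := by
  classical
  rw [Nat.card_eq_fintype_card, Fintype.card_subtype, fx]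
  congr 1

end JK
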