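import Mathlib.Tactic

/-! The degree equations. -/

set_option autoImplicit false

namespace JK

/-- check for small orders -/
def chk1 (x y : ℤ) : Bool :=
  (720 * x * (y * (1 + x - y))) % ((1 + x) * (y * (1 + x - y) - 25 * x)) != 0 ||
    (let n := (720 * x * (y * (1 + x - y))) / ((1 + x) * (y * (1 + x - y) - 25 * x))
    decide (n ≤ 0) || (List.range 134).all fun k : ℕ =>
      let u : ℤ := 8 * k - 531
      n * (1 + x) * (u * (1 + x - u) - 9 * x) != 1200 * x * (u * (1 + x - u)) || n == 1463 ||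
        (n == 1575 && x == -15 && (y == -35 || y == 21)))

theorem chk1_all : ((List.range 134).all fun i : ℕ => (List.range 134).all fun j : ℕ =>
    chk1 (8 * i - 535) (8 * j - 531)) = true := by decide +kernel

theorem small8 {x y u n : ℤ} (hn : 0 < n) (hx : x % 8 = 1) (hy : y % 8 = 5) (hu : u % 8 = 5)
    (bx : x * x ≤ 288000) (bY : y * y ≤ 288000) (bu : u * u ≤ 288000)
    (hA : n * ((1 + x) * (y * (1 + x - y) - 25 * x)) = 720 * x * (y * (1 + x - y)))
    (hB : n * (1 + x) * (u * (1 + x - u) - 9 * x) = 1200 * x * (u * (1 + x - u))) :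
    n = 1463 ∨ (n = 1575 ∧ x = -15 ∧ (y = -35 ∨ y = 21)) := by
  have bd : ∀ z : ℤ, z * z ≤ 288000 → -537 < z ∧ z < 537 := fun z hz => ⟨by nlinarith, by nlinarith⟩
  obtain ⟨i, hi, rfl⟩ : ∃ i : ℕ, i < 134 ∧ x = 8 * i - 535 :=
    ⟨((x + 535) / 8).toNat, by have := bd x bx; omega, by have := bd x bx; omega⟩
  obtain ⟨j, hj, rfl⟩ : ∃ i : ℕ, i < 134 ∧ y = 8 * i - 531 :=
    ⟨((y + 531) / 8).toNat, by have := bd y bY; omega, by have := bd y bY; omega⟩
  obtain ⟨k, hk, rfl⟩ : ∃ i : ℕ, i < 134 ∧ u = 8 * i - 531 :=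
    ⟨((u + 531) / 8).toNat, by have := bd u bu; omega, by have := bd u bu; omega⟩
  have h := List.all_eq_true.mp (List.all_eq_true.mp chk1_all i (List.mem_range.mpr hi)) j
    (List.mem_range.mpr hj)
  generalize (8 * i - 535 : ℤ) = x at *
  generalize (8 * j - 531 : ℤ) = y at *
  have hd : (1 + x) * (y * (1 + x - y) - 25 * x) ≠ 0 := fun e => by
    rw [e, mul_zero] at hA
    rcases mul_eq_zero.mp hA.symm with h1 | h1
    · omega
    · rcases mul_eq_zero.mp h1 with h2 | h2 <;> omega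
  simp only [chk1, ← hA, Int.mul_emod_left, Int.mul_ediv_cancel _ hd, bne_self_eq_false,
    Bool.false_or, Bool.or_eq_true, decide_eq_true_eq, List.all_eq_true, List.mem_range] at h
  rcases h with h | h
  · omega
  · have := h k hk
    simpa [hB, and_assoc] using this

/-- integer square root by bisection -/
def isq (D : ℤ) : ℤ :=
  (List.range 40).foldr (fun i r => if (r + 2 ^ i) * (r + 2 ^ i) ≤ D then r + 2 ^ i else r) 0

/-- check of a root -/
def ok2 (y L s : ℤ) : Bool :=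
  s % (2 * L) != 0 || (let x := s / (2 * L)
    x % 8 != 1 || x == 1 || (720 * x * (y * (1 + x - y)) != 0 &&
      decide (720 * x * (y * (1 + x - y)) / ((1 + x) * (y * (1 + x - y) - 25 * x)) ≤ 2400)))

/-- check for large orders -/
def chk2 (y u : ℤ) : Bool :=
  let L := 2 * y * u + 27 * y - 125 * u
  let B := 2 * y * u * (2 - y - u) + 27 * y * (1 - y) - 125 * u * (1 - u)
  let C := 2 * y * u * (1 - y) * (1 - u)
  let D := B * B - 4 * L * C
  let r := isq D
  L != 0 && (decide (D < 0) || (decide (0 ≤ r) && decide (r * r ≤ D) &&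
    decide (D < (r + 1) * (r + 1)) && (r * r != D || (ok2 y L (r - B) && ok2 y L (-r - B)))))

theorem chk2_all : ((List.range 11).all fun i : ℕ => (List.range 6).all fun j : ℕ =>
    chk2 (8 * i + 5) (8 * j + 5)) = true := by decide +kernel

theorem large8 {x y u n : ℤ} (hn : 2400 < n) (hx : x % 8 = 1) (hx1 : x ≠ 1) (hy : y % 8 = 5)
    (hu : u % 8 = 5) (y0 : 0 < y) (y1 : y < 90) (u0 : 0 < u) (u1 : u < 51)
    (hA : n * ((1 + x) * (y * (1 + x - y) - 25 * x)) = 720 * x * (y * (1 + x - y)))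
    (hB : n * (1 + x) * (u * (1 + x - u) - 9 * x) = 1200 * x * (u * (1 + x - u))) : False := by
  obtain ⟨i, hi, rfl⟩ : ∃ i : ℕ, i < 11 ∧ y = 8 * i + 5 := ⟨(y / 8).toNat, by omega, by omega⟩
  obtain ⟨j, hj, rfl⟩ : ∃ i : ℕ, i < 6 ∧ u = 8 * i + 5 := ⟨(u / 8).toNat, by omega, by omega⟩
  have h := List.all_eq_true.mp (List.all_eq_true.mp chk2_all i (List.mem_range.mpr hi)) j
    (List.mem_range.mpr hj)
  generalize (8 * i + 5 : ℤ) = y at *
  generalize (8 * j + 5 : ℤ) = u at *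
  have x0 : x ≠ 0 := by omega
  simp only [chk2, Bool.and_eq_true, Bool.or_eq_true, decide_eq_true_eq, bne_iff_ne] at h
  obtain ⟨L, hL⟩ : ∃ L, L = 2 * y * u + 27 * y - 125 * u := ⟨_, rfl⟩
  obtain ⟨B, hB'⟩ : ∃ B, B = 2 * y * u * (2 - y - u) + 27 * y * (1 - y) - 125 * u * (1 - u) :=
    ⟨_, rfl⟩
  obtain ⟨C, hC⟩ : ∃ C, C = 2 * y * u * (1 - y) * (1 - u) := ⟨_, rfl⟩
  rw [← hL, ← hB', ← hC] at h
  have hq : L * x * x + B * x + C = 0 := by
    apply mul_left_cancel₀ (show 240 * x ≠ 0 by omega)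
    rw [hL, hB', hC]
    linear_combination (u * (1 + x - u) - 9 * x) * hA - (y * (1 + x - y) - 25 * x) * hB
  have hD : B * B - 4 * L * C = (2 * L * x + B) * (2 * L * x + B) := by
    linear_combination (-4 * L) * hq
  rw [hD] at h
  generalize isq _ = r at h
  obtain ⟨L0, h | ⟨⟨⟨r0, r1⟩, r2⟩, h⟩⟩ := h
  · nlinarith [mul_self_nonneg (2 * L * x + B)]
  have ok : ¬ ok2 y L (2 * L * x) = true := by
    have h2 : 2 * L ≠ 0 := by omega
    simp only [ok2, Int.mul_emod_right, Int.mul_ediv_cancel_left _ h2, bne_self_eq_false,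
      Bool.false_or, Bool.or_eq_true, bne_iff_ne, beq_iff_eq, Bool.and_eq_true, decide_eq_true_eq,
      ← hA]
    rintro ((h3 | h3) | ⟨h3, h4⟩)
    · exact h3 hx
    · exact hx1 h3
    · rw [Int.mul_ediv_cancel _ (right_ne_zero_of_mul h3)] at h4
      omega
  generalize hs : 2 * L * x + B = s at *
  have e : s = r ∨ s = -r := by
    rcases le_total 0 s with h0 | h0
    · left; nlinarith
    · right; nlinarith
  rcases h with h | ⟨h1, h2⟩
  · rcases e with e | e <;> rw [e] at h <;> exact h (by ring)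
  · rcases e with e | e
    · rw [← e, ← hs, add_sub_cancel_right] at h1; exact ok h1
    · rw [← e, ← hs, add_sub_cancel_right] at h2; exact ok h2

theorem exists_small {a b : ℤ} {c : ℚ} (hc : 0 < c) (h : c < 1 / (a : ℚ) + 1 / b) :
    (0 < a ∧ a * c < 2) ∨ (0 < b ∧ b * c < 2) := by
  have key : ∀ a : ℤ, c / 2 < 1 / (a : ℚ) → 0 < a ∧ a * c < 2 := fun a ha => by
    have h0 : (0 : ℚ) < a := one_div_pos.mp (lt_trans (by positivity) ha)
    refine ⟨by exact_mod_cast h0, ?_⟩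
    rw [lt_div_iff₀ h0] at ha
    linarith
  by_cases h1 : c / 2 < 1 / (a : ℚ)
  · exact Or.inl (key a h1)
  · exact Or.inr (key b (by linarith))

theorem num8 {x y1 y2 u1 u2 n : ℤ} (hn : 0 < n) (hx : x % 8 = 1) (hx1 : x ≠ 1) (hy1 : y1 % 8 = 5)
    (hy2 : y2 % 8 = 5) (hu1 : u1 % 8 = 5) (hu2 : u2 % 8 = 5) (sy : y1 + y2 = 1 + x)
    (su : u1 + u2 = 1 + x) (bx : x * x ≤ 120 * n) (bY : y1 * y1 ≤ 120 * n)
    (bu : u1 * u1 ≤ 120 * n)
    (hA : (1 + 1 / (x : ℚ)) - 25 * (1 / y1 + 1 / y2) = 720 / n)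
    (hB : (1 + 1 / (x : ℚ)) - 9 * (1 / u1 + 1 / u2) = 1200 / n) :
    n = 1463 ∨ (n = 1575 ∧ x = -15 ∧ (y1 = -35 ∨ y1 = 21)) := by
  have n0 : (0 : ℚ) < n := by exact_mod_cast hn
  have x0 : (x : ℚ) ≠ 0 := by exact_mod_cast (show x ≠ 0 by omega)
  have pA : ∀ a b : ℤ, a % 8 = 5 → b % 8 = 5 → a + b = 1 + x →
      (1 + 1 / (x : ℚ)) - 25 * (1 / a + 1 / b) = 720 / n →
      n * ((1 + x) * (a * (1 + x - a) - 25 * x)) = 720 * x * (a * (1 + x - a)) := by
    intro a b ha hb e h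
    have a0 : (a : ℚ) ≠ 0 := by exact_mod_cast (show a ≠ 0 by omega)
    have b0 : (b : ℚ) ≠ 0 := by exact_mod_cast (show b ≠ 0 by omega)
    have e' : (a : ℚ) + b = 1 + x := by exact_mod_cast e
    rw [show 1 + x - a = b by omega]
    field_simp at h
    have : (n : ℚ) * ((1 + x) * (a * b - 25 * x)) = 720 * x * (a * b) := by
      linear_combination h + 25 * x * n * e'
    exact_mod_cast this
  have pB : ∀ a b : ℤ, a % 8 = 5 → b % 8 = 5 → a + b = 1 + x →
      (1 + 1 / (x : ℚ)) - 9 * (1 / a + 1 / b) = 1200 / n →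
      n * (1 + x) * (a * (1 + x - a) - 9 * x) = 1200 * x * (a * (1 + x - a)) := by
    intro a b ha hb e h
    have a0 : (a : ℚ) ≠ 0 := by exact_mod_cast (show a ≠ 0 by omega)
    have b0 : (b : ℚ) ≠ 0 := by exact_mod_cast (show b ≠ 0 by omega)
    have e' : (a : ℚ) + b = 1 + x := by exact_mod_cast e
    rw [show 1 + x - a = b by omega]
    field_simp at h
    have : (n : ℚ) * (1 + x) * (a * b - 9 * x) = 1200 * x * (a * b) := by
      linear_combination h + 9 * x * n * e'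
    exact_mod_cast this
  by_cases hl : n ≤ 2400
  · exact small8 hn hx hy1 hu1 (by omega) (by omega) (by omega) (pA _ _ hy1 hy2 sy hA)
      (pB _ _ hu1 hu2 su hB)
  exfalso
  have n1 : (2400 : ℚ) < n := by exact_mod_cast not_le.mp hl
  have i1 : (720 : ℚ) / n < 3 / 10 := by rw [div_lt_iff₀ n0]; linarith
  have i2 : (1200 : ℚ) / n < 1 / 2 := by rw [div_lt_iff₀ n0]; linarith
  have i3 : (-1 / 7 : ℚ) ≤ 1 / x := by
    rcases (show x ≤ -7 ∨ 0 < x by omega) with h | h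
    · have : (x : ℚ) ≤ -7 := by exact_mod_cast h
      rw [le_div_iff_of_neg (by linarith)]; linarith
    · have : (0 : ℚ) < x := by exact_mod_cast h
      have := one_div_pos.mpr this
      linarith
  have bd : ∀ (a : ℤ) (c : ℚ) (m : ℤ), (a : ℚ) * c < 2 → 0 < c → 2 ≤ m * c → a < m :=
    fun a c m h1 h2 h3 => by
      have : (a : ℚ) < m := lt_of_mul_lt_mul_right (lt_of_lt_of_le h1 h3) h2.le
      exact_mod_cast this
  rcases exists_small (a := y1) (b := y2) (c := 39 / 1750) (by norm_num) (by linarith) with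
    ⟨h1, h2⟩ | ⟨h1, h2⟩ <;>
  rcases exists_small (a := u1) (b := u2) (c := 5 / 126) (by norm_num) (by linarith) with
    ⟨h3, h4⟩ | ⟨h3, h4⟩ <;>
  have h5 := bd _ _ 90 h2 (by norm_num) (by norm_num) <;>
  have h6 := bd _ _ 51 h4 (by norm_num) (by norm_num)
  · exact large8 (not_le.mp hl) hx hx1 hy1 hu1 h1 h5 h3 h6 (pA _ _ hy1 hy2 sy hA)
      (pB _ _ hu1 hu2 su hB)
  · exact large8 (not_le.mp hl) hx hx1 hy1 hu2 h1 h5 h3 h6 (pA _ _ hy1 hy2 sy hA)
      (pB _ _ hu2 hu1 (by omega) (by linarith))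
  · exact large8 (not_le.mp hl) hx hx1 hy2 hu1 h1 h5 h3 h6
      (pA _ _ hy2 hy1 (by omega) (by linarith)) (pB _ _ hu1 hu2 su hB)
  · exact large8 (not_le.mp hl) hx hx1 hy2 hu2 h1 h5 h3 h6
      (pA _ _ hy2 hy1 (by omega) (by linarith)) (pB _ _ hu2 hu1 (by omega) (by linarith))

/-- check for the second pattern -/
def chk3 (m : ℤ) : Bool :=
  m == 0 || (45 * (2 * m + 1) * (8 * m + 5)) % (m * m) != 0 ||
    (let n := (45 * (2 * m + 1) * (8 * m + 5)) / (m * m)
    let x := 4 * m + 2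
    decide (n ≤ 1755) && (List.range 115).all fun k : ℕ =>
      let q : ℤ := 8 * k - 458
      n * (25 * x * q * (1 + x + q) + 36 * x * (1 + 2 * x) * (1 + x + q) - 9 * x * (1 + 2 * x) * q
        - 4 * (1 + 2 * x) * q * (1 + x + q)) != 480 * x * (1 + 2 * x) * q * (1 + x + q))

theorem chk3_all : ((List.range 451).all fun i : ℕ => chk3 (i - 225)) = true := by decide +kernel

theorem num7 {x q n : ℤ} (hn : 0 < n) (hx : x % 8 = 6) (hq : q % 8 = 6) (bq : q * q ≤ 120 * n)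
    (hA : 1 + 8 / (x : ℚ) - 25 / (1 + 2 * x) = 720 / n)
    (hB : 25 / (1 + 2 * (x : ℚ)) + 36 / q - 9 / (1 + x + q) - 4 / x = 480 / n) : False := by
  have n0 : (n : ℚ) ≠ 0 := by exact_mod_cast hn.ne'
  have x0 : (x : ℚ) ≠ 0 := by exact_mod_cast (show x ≠ 0 by omega)
  have q0 : (q : ℚ) ≠ 0 := by exact_mod_cast (show q ≠ 0 by omega)
  have x1 : 1 + 2 * (x : ℚ) ≠ 0 := by exact_mod_cast (show 1 + 2 * x ≠ 0 by omega)
  have p0 : 1 + (x : ℚ) + q ≠ 0 := by exact_mod_cast (show 1 + x + q ≠ 0 by omega)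
  have x1' : 1 + (x : ℚ) * 2 ≠ 0 := by rwa [mul_comm]
  field_simp at hA hB
  have hB' : n * (25 * x * q * (1 + x + q) + 36 * x * (1 + 2 * x) * (1 + x + q) -
      9 * x * (1 + 2 * x) * q - 4 * (1 + 2 * x) * q * (1 + x + q)) =
      480 * x * (1 + 2 * x) * q * (1 + x + q) := by
    have : (n : ℚ) * (25 * x * q * (1 + x + q) + 36 * x * (1 + 2 * x) * (1 + x + q) -
      9 * x * (1 + 2 * x) * q - 4 * (1 + 2 * x) * q * (1 + x + q)) =
      480 * x * (1 + 2 * x) * q * (1 + x + q) := by linear_combination hB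
    exact_mod_cast this
  obtain ⟨m, rfl⟩ : ∃ m, x = 4 * m + 2 := ⟨(x - 2) / 4, by omega⟩
  have hA' : n * (m * m) = 45 * (2 * m + 1) * (8 * m + 5) := by
    have : (n : ℚ) * (m * m) = 45 * (2 * m + 1) * (8 * m + 5) := by
      push_cast at hA
      linear_combination hA / 32
    exact_mod_cast this
  have m0 : m ≠ 0 := by omega
  have hd : m ∣ 225 := ⟨n * m - 720 * m - 810, by linear_combination -hA'⟩
  have b1 := Int.le_of_dvd (by norm_num) hd
  have b2 := Int.le_of_dvd (by norm_num) (neg_dvd.mpr hd)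
  obtain ⟨i, hi, rfl⟩ : ∃ i : ℕ, i < 451 ∧ m = i - 225 := ⟨(m + 225).toNat, by omega, by omega⟩
  have h := List.all_eq_true.mp chk3_all i (List.mem_range.mpr hi)
  generalize (i - 225 : ℤ) = m at *
  simp only [chk3, ← hA', Int.mul_emod_left, Int.mul_ediv_cancel _ (mul_ne_zero m0 m0),
    bne_self_eq_false, Bool.or_false, Bool.or_eq_true, beq_iff_eq, m0, false_or, Bool.and_eq_true,
    decide_eq_true_eq, List.all_eq_true, List.mem_range, bne_iff_ne] at h
  have b3 : -459 < q := by nlinarith [h.1]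
  have b4 : q < 459 := by nlinarith [h.1]
  obtain ⟨k, hk, rfl⟩ : ∃ i : ℕ, i < 115 ∧ q = 8 * i - 458 :=
    ⟨((q + 458) / 8).toNat, by omega, by omega⟩
  exact h.2 k hk hB'

end JK
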