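import Mathlib.Tactic

/-! The possible generalized decomposition matrices. -/

set_option autoImplicit false

namespace JK

/-- the possible rows up to sign -/
def can : Fin 14 → ℤ × ℤ × ℤ := ![(1, 1, 1), (1, -1, -1), (-1, 1, -1), (-1, -1, 1), (2, 0, 0),
  (0, 2, 0), (0, 0, 2), (2, 2, 0), (2, 0, 2), (0, 2, 2), (2, 2, 2), (2, -2, -2), (-2, 2, -2),
  (-2, -2, 2)]

theorem exists_can_aux : ∀ a b c : Fin 5, ((a : ℤ) - 2) % 2 = ((b : ℤ) - 2) % 2 →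
    ((a : ℤ) - 2) % 2 = ((c : ℤ) - 2) % 2 → (a : ℤ) - 2 + ((b : ℤ) - 2) + ((c : ℤ) - 2) ≠ 0 →
    ∃ τ : Fin 14, ((a : ℤ) - 2, (b : ℤ) - 2, (c : ℤ) - 2) = can τ ∨
      ((a : ℤ) - 2, (b : ℤ) - 2, (c : ℤ) - 2) = -can τ := by decide +kernel

theorem exists_can {v : ℤ × ℤ × ℤ} (h1 : v.1 * v.1 ≤ 8) (h2 : v.2.1 * v.2.1 ≤ 8)
    (h3 : v.2.2 * v.2.2 ≤ 8) (p1 : v.1 % 2 = v.2.1 % 2) (p2 : v.1 % 2 = v.2.2 % 2)
    (h : v.1 + v.2.1 + v.2.2 ≠ 0) : ∃ (τ : Fin 14) (δ : ℤ), (δ = 1 ∨ δ = -1) ∧ v = δ • can τ := by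
  have key : ∀ x : ℤ, x * x ≤ 8 → ∃ a : Fin 5, x = (a : ℤ) - 2 := fun x hx => by
    have h1 : x < 3 := by nlinarith
    have h2 : -3 < x := by nlinarith
    exact ⟨⟨(x + 2).toNat, by omega⟩, by simp only; omega⟩
  obtain ⟨x, y, z⟩ := v
  obtain ⟨a, rfl⟩ := key x h1
  obtain ⟨b, rfl⟩ := key y h2
  obtain ⟨c, rfl⟩ := key z h3
  obtain ⟨τ, e | e⟩ := exists_can_aux a b c p1 p2 h
  · exact ⟨τ, 1, Or.inl rfl, by rw [one_smul]; exact e⟩
  · exact ⟨τ, -1, Or.inr rfl, by rw [neg_one_smul]; exact e⟩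

variable {ι : Type*} [DecidableEq ι]

theorem pattern {B : Finset ι} {o : ι} (ho : o ∈ B) (v : ι → ℤ × ℤ × ℤ) (hvo : v o = (1, 1, 1))
    (p1 : ∀ i ∈ B, (v i).1 % 2 = (v i).2.1 % 2) (p2 : ∀ i ∈ B, (v i).1 % 2 = (v i).2.2 % 2)
    (hs : ∀ i ∈ B, (v i).1 + (v i).2.1 + (v i).2.2 ≠ 0)
    (g11 : ∑ i ∈ B, (v i).1 * (v i).1 = 8) (g22 : ∑ i ∈ B, (v i).2.1 * (v i).2.1 = 8)
    (g33 : ∑ i ∈ B, (v i).2.2 * (v i).2.2 = 8) (g12 : ∑ i ∈ B, (v i).1 * (v i).2.1 = 0)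
    (g13 : ∑ i ∈ B, (v i).1 * (v i).2.2 = 0) (g23 : ∑ i ∈ B, (v i).2.1 * (v i).2.2 = 0) :
    ∃ δ : ι → ℤ, (∀ i ∈ B, δ i = 1 ∨ δ i = -1) ∧
      ((∃ a ∈ B, ∃ b1 ∈ B, ∃ b2 ∈ B, ∃ c1 ∈ B, ∃ c2 ∈ B, ∃ d1 ∈ B, ∃ d2 ∈ B, a ≠ o ∧
        v a = δ a • (1, 1, 1) ∧ v b1 = δ b1 • (1, -1, -1) ∧ v b2 = δ b2 • (1, -1, -1) ∧
        v c1 = δ c1 • (-1, 1, -1) ∧ v c2 = δ c2 • (-1, 1, -1) ∧ v d1 = δ d1 • (-1, -1, 1) ∧
        v d2 = δ d2 • (-1, -1, 1) ∧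
        (∀ i ∈ B, ∀ ε : ℤ, v i = ε • (-1, -1, 1) → i = d1 ∨ i = d2) ∧
        ∀ f : ι → ℚ, ∑ i ∈ B, f i = f o + f a + (f b1 + f b2) + (f c1 + f c2) + (f d1 + f d2)) ∨
      (∃ b ∈ B, ∃ c ∈ B, ∃ d ∈ B, ∃ e1 ∈ B, ∃ e2 ∈ B, ∃ e3 ∈ B,
        v b = δ b • (1, -1, -1) ∧ v c = δ c • (-1, 1, -1) ∧ v d = δ d • (-1, -1, 1) ∧
        v e1 = δ e1 • (2, 0, 0) ∧ v e2 = δ e2 • (0, 2, 0) ∧ v e3 = δ e3 • (0, 0, 2) ∧
        (∀ i ∈ B, ∀ ε : ℤ, v i = ε • (0, 2, 0) → i = e2) ∧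
        ∀ f : ι → ℚ, ∑ i ∈ B, f i = f o + f b + f c + f d + f e1 + f e2 + f e3)) := by
  have hb : ∀ (F : ι → ℤ), ∑ i ∈ B, F i * F i = 8 → ∀ i ∈ B, F i * F i ≤ 8 := fun F h i hi =>
    h ▸ Finset.single_le_sum (f := fun i => F i * F i) (fun j _ => mul_self_nonneg _) hi
  have h1 : ∀ i, ∃ (τ : Fin 14) (δ : ℤ), i ∈ B → (δ = 1 ∨ δ = -1) ∧ v i = δ • can τ := fun i => by
    by_cases hi : i ∈ B
    · obtain ⟨τ, δ, h⟩ := exists_can (hb _ g11 i hi) (hb _ g22 i hi) (hb _ g33 i hi) (p1 i hi)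
        (p2 i hi) (hs i hi)
      exact ⟨τ, δ, fun _ => h⟩
    · exact ⟨0, 0, fun h => absurd h hi⟩
  choose ty δ h using h1
  have tyeq : ∀ i ∈ B, ∀ (ε : ℤ) (τ : Fin 14), v i = ε • can τ → τ = 0 ∨ τ = 3 ∨ τ = 5 →
      ty i = τ ∨ 7 ≤ ty i ∨ (τ = 3 ∧ 4 ≤ ty i) := fun i hi ε τ e hτ => by
    obtain ⟨h1, h2⟩ := h i hi
    rw [h2] at e
    generalize ty i = σ at e
    rcases hτ with rfl | rfl | rfl <;> rcases h1 with h1 | h1 <;> rw [h1] at e <;> fin_cases σ <;>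
      simp [can, Prod.ext_iff] at e ⊢ <;> omega
  have sum : ∀ {M : Type} [AddCommMonoid M] (f : ι → M),
      ∑ i ∈ B, f i = ∑ τ : Fin 14, ∑ i ∈ B with ty i = τ, f i := fun f =>
    (Finset.sum_fiberwise B ty f).symm
  have quad : ∀ (F G : ℤ × ℤ × ℤ →ₗ[ℤ] ℤ), ∑ i ∈ B, F (v i) * G (v i) =
      ∑ τ : Fin 14, ((B.filter fun i => ty i = τ).card : ℤ) * (F (can τ) * G (can τ)) := by
    intro F G
    rw [sum]
    refine Finset.sum_congr rfl fun τ _ => ?_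
    rw [← nsmul_eq_mul, ← Finset.sum_const]
    refine Finset.sum_congr rfl fun i hi => ?_
    obtain ⟨hi', rfl⟩ := Finset.mem_filter.mp hi
    obtain ⟨h1, h2⟩ := h i hi'
    rw [h2, map_smul, map_smul]
    rcases h1 with h1 | h1 <;> simp [h1]
  let P1 : ℤ × ℤ × ℤ →ₗ[ℤ] ℤ := LinearMap.fst _ _ _
  let P2 : ℤ × ℤ × ℤ →ₗ[ℤ] ℤ := (LinearMap.fst _ _ _).comp (LinearMap.snd _ _ _)
  let P3 : ℤ × ℤ × ℤ →ₗ[ℤ] ℤ := (LinearMap.snd _ _ _).comp (LinearMap.snd _ _ _)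
  have e11 := g11.symm.trans (quad P1 P1)
  have e22 := g22.symm.trans (quad P2 P2)
  have e33 := g33.symm.trans (quad P3 P3)
  have e12 := g12.symm.trans (quad P1 P2)
  have e13 := g13.symm.trans (quad P1 P3)
  have e23 := g23.symm.trans (quad P2 P3)
  obtain ⟨S, hS⟩ : ∃ S : Fin 14 → Finset ι, ∀ τ, S τ = B.filter fun i => ty i = τ := ⟨_, fun _ => rfl⟩
  have mem : ∀ τ i, i ∈ S τ ↔ i ∈ B ∧ ty i = τ := fun τ i => by rw [hS, Finset.mem_filter]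
  simp only [← hS] at e11 e22 e33 e12 e13 e23 sum
  simp only [Fin.sum_univ_succ, Fin.sum_univ_zero, can, P1, P2, P3, LinearMap.fst_apply,
    LinearMap.snd_apply, LinearMap.comp_apply, Matrix.cons_val_zero, Matrix.cons_val_succ,
    Fin.succ_zero_eq_one, Fin.succ_one_eq_two, Fin.reduceSucc] at e11 e22 e33 e12 e13 e23 sum
  have hz : ∀ τ, (S τ).card = 0 → S τ = ∅ := fun τ => Finset.card_eq_zero.mp
  have big : ∀ i ∈ B, ¬ 7 ≤ ty i ∧ ((S (ty i)).card ≠ 0) := fun i hi => by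
    have hp : 0 < (S (ty i)).card := Finset.card_pos.mpr ⟨i, (mem _ _).mpr ⟨hi, rfl⟩⟩
    have h0 : 0 < (S 0).card ∨ 7 ≤ ty o := by
      rcases tyeq o ho 1 0 (by rw [hvo]; rfl) (Or.inl rfl) with e | e | e
      · exact Or.inl (Finset.card_pos.mpr ⟨o, (mem _ _).mpr ⟨ho, e⟩⟩)
      · exact Or.inr e
      · exact absurd e.1 (by decide)
    have h00 : 0 < (S 0).card := h0.resolve_right fun h7 => by
      obtain ⟨h1, h2⟩ := h o ho
      rw [hvo] at h2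
      generalize ty o = σ at h2 h7
      rcases h1 with h1 | h1 <;> rw [h1] at h2 <;> fin_cases σ <;> simp [can, Prod.ext_iff] at h2 h7
    refine ⟨fun h7 => ?_, hp.ne'⟩
    generalize ty i = σ at hp h7
    fin_cases σ <;> simp at h7 <;> simp only [Fin.reduceFinMk] at hp <;> omega
  have o0 : o ∈ S 0 := (mem _ _).mpr ⟨ho, by
    rcases tyeq o ho 1 0 (by rw [hvo]; rfl) (Or.inl rfl) with e | e | e
    · exact e
    · exact absurd e (big o ho).1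
    · exact absurd e.1 (by decide)⟩
  have h00 : 0 < (S 0).card := Finset.card_pos.mpr ⟨o, o0⟩
  have val : ∀ τ i, i ∈ S τ → i ∈ B ∧ v i = δ i • can τ := fun τ i hi => by
    obtain ⟨h1, rfl⟩ := (mem _ _).mp hi
    exact ⟨h1, (h i h1).2⟩
  have z7 : ∀ τ : Fin 14, 7 ≤ τ → S τ = ∅ := fun τ hτ => by
    rw [Finset.eq_empty_iff_forall_notMem]
    intro i hi
    obtain ⟨h1, rfl⟩ := (mem _ _).mp hi
    exact (big i h1).1 hτ
  rw [z7 7 (by decide), z7 8 (by decide), z7 9 (by decide), z7 10 (by decide), z7 11 (by decide),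
    z7 12 (by decide), z7 13 (by decide)] at e11 e22 e33 e12 e13 e23 sum
  simp only [Finset.card_empty, Finset.sum_empty] at e11 e22 e33 e12 e13 e23 sum
  refine ⟨δ, fun i hi => (h i hi).1, ?_⟩
  by_cases h4 : (S 4).card = 0
  · left
    obtain ⟨a, ao, ea⟩ : ∃ a, a ≠ o ∧ S 0 = {o, a} := by
      obtain ⟨x, y, hxy, e⟩ := Finset.card_eq_two.mp (show (S 0).card = 2 by omega)
      rw [e, Finset.mem_insert, Finset.mem_singleton] at o0
      rcases o0 with rfl | rfl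
      · exact ⟨y, hxy.symm, e⟩
      · exact ⟨x, hxy, e.trans (Finset.pair_comm _ _)⟩
    obtain ⟨b1, b2, hb, eb⟩ := Finset.card_eq_two.mp (show (S 1).card = 2 by omega)
    obtain ⟨c1, c2, hc, ec⟩ := Finset.card_eq_two.mp (show (S 2).card = 2 by omega)
    obtain ⟨d1, d2, hd, ed⟩ := Finset.card_eq_two.mp (show (S 3).card = 2 by omega)
    have va := val 0 a (by simp [ea])
    have vb1 := val 1 b1 (by simp [eb])
    have vb2 := val 1 b2 (by simp [eb])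
    have vc1 := val 2 c1 (by simp [ec])
    have vc2 := val 2 c2 (by simp [ec])
    have vd1 := val 3 d1 (by simp [ed])
    have vd2 := val 3 d2 (by simp [ed])
    refine ⟨a, va.1, b1, vb1.1, b2, vb2.1, c1, vc1.1, c2, vc2.1, d1, vd1.1, d2, vd2.1, ao, va.2,
      vb1.2, vb2.2, vc1.2, vc2.2, vd1.2, vd2.2, fun i hi ε e => ?_, fun f => ?_⟩
    · rcases tyeq i hi ε 3 e (by simp) with e | e | e
      · have := (mem 3 i).mpr ⟨hi, e⟩
        simpa [ed] using this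
      · exact absurd e (big i hi).1
      · exfalso
        obtain ⟨h5, h7⟩ := big i hi
        have h6 := e.2
        generalize ty i = σ at h5 h6 h7
        fin_cases σ <;> simp at h5 h6 <;> simp only [Fin.reduceFinMk] at h7 <;> omega
    · rw [sum f, ea, eb, ec, ed, hz 4 h4, hz 5 (by omega), hz 6 (by omega),
        Finset.sum_pair ao.symm, Finset.sum_pair hb, Finset.sum_pair hc, Finset.sum_pair hd]
      simp only [Finset.sum_empty]; ring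
  · right
    obtain ⟨a, ea⟩ := Finset.card_eq_one.mp (show (S 0).card = 1 by omega)
    obtain rfl : o = a := by simpa [ea] using o0
    obtain ⟨b, eb⟩ := Finset.card_eq_one.mp (show (S 1).card = 1 by omega)
    obtain ⟨c, ec⟩ := Finset.card_eq_one.mp (show (S 2).card = 1 by omega)
    obtain ⟨d, ed⟩ := Finset.card_eq_one.mp (show (S 3).card = 1 by omega)
    obtain ⟨e1, ee1⟩ := Finset.card_eq_one.mp (show (S 4).card = 1 by omega)
    obtain ⟨e2, ee2⟩ := Finset.card_eq_one.mp (show (S 5).card = 1 by omega)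
    obtain ⟨e3, ee3⟩ := Finset.card_eq_one.mp (show (S 6).card = 1 by omega)
    have vb := val 1 b (by simp [eb])
    have vc := val 2 c (by simp [ec])
    have vd := val 3 d (by simp [ed])
    have v1 := val 4 e1 (by simp [ee1])
    have v2 := val 5 e2 (by simp [ee2])
    have v3 := val 6 e3 (by simp [ee3])
    refine ⟨b, vb.1, c, vc.1, d, vd.1, e1, v1.1, e2, v2.1, e3, v3.1, vb.2, vc.2, vd.2, v1.2, v2.2,
      v3.2, fun i hi ε e => ?_, fun f => ?_⟩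
    · rcases tyeq i hi ε 5 e (by simp) with e | e | e
      · have := (mem 5 i).mpr ⟨hi, e⟩
        simpa [ee2] using this
      · exact absurd e (big i hi).1
      · exact absurd e.1 (by decide)
    · rw [sum f, ea, eb, ec, ed, ee1, ee2, ee3]
      simp only [Finset.sum_singleton]; ring

end JK
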