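import Cfsg.Agent.JK.Glob
import Cfsg.Agent.JK.Pat
import Cfsg.Agent.JK.Num

/-! Janko's theorem on the order of a group with involution centralizer `Z₂ × A₅`. -/

set_option autoImplicit false
set_option linter.unusedSectionVars false
set_option linter.unusedVariables false

namespace JK

open Cfsg Subgroup L
open scoped ComplexConjugate Classical

variable {G : Type*} [Group G] [Fintype G] {t : G} {Φ : KK5 →* G}

theorem row_eq {P m P' m' : ℤ} (h1 : ((P : ℂ) + m * s5) / 2 = (P' + m' * s5) / 2)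
    (h2 : ((P : ℂ) - m * s5) / 2 = (P' - m' * s5) / 2) : P = P' ∧ m = m' := by
  constructor
  · have : (P : ℂ) = P' := by linear_combination h1 + h2
    exact_mod_cast this
  · have : (m : ℂ) = m' := mul_right_cancel₀ s5_ne (by linear_combination h1 - h2)
    exact_mod_cast this

theorem sq_deg_le (χ : IrrCharacter G) {d : ℕ} (hd : χ.1 1 = d) : d * d ≤ Nat.card G := by
  choose e he using fun ψ : IrrCharacter G => H8.char_apply_one (H8.irr_isCharacter ψ.2)
  have h1 := H8.sum_irr_degree_sq (G := G)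
  simp only [he] at h1
  have h2 : ∑ ψ, e ψ * e ψ = Nat.card G := by exact_mod_cast h1
  have h3 : d = e χ := by exact_mod_cast hd.symm.trans (he χ)
  rw [← h2, h3]
  exact Finset.single_le_sum (f := fun ψ => e ψ * e ψ) (fun _ _ => Nat.zero_le _)
    (Finset.mem_univ χ)

namespace JS

theorem kill (h : JS t Φ) {χ : IrrCharacter G} (h1 : χ.1 1 = 35) (ht : χ.1 t = -5)
    (hy : χ.1 (Φ (R4 1)) = 1) (hz : χ.1 (Φ (R4 2)) = 0) (hz2 : χ.1 (Φ (R4 3)) = 0)
    (hr : χ.1 (Φ (1, z5 * z5)) = χ.1 (Φ (1, z5))) : False := by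
  have hc := H8.irr_isCharacter χ.2
  have hcl := H8.char_isClassFunction hc
  have hK := H8.char_comp hc Φ
  have h0 : ∑ g : V8, χ.1 (Φ g) = 0 := by rw [h.sum_V hcl, h1, ht]; norm_num
  have e1 := inner_eq_zero hK h0 (triv _) (by simp [← Nat.card_eq_fintype_card, card_V8])
  have e2 := inner_eq_zero hK h0 ⟨psi4, psi4_irr⟩ (by rw [sum_V8_psi4]; norm_num)
  have inv : ∀ k : KK5, k * k = 1 → k ≠ 1 → χ.1 (Φ k) = -5 := fun k k2 k1 => by
    rw [← ht]
    exact (H8.IsClassFunction_apply_of_isConj hcl (h.one _ (by rw [← map_mul, k2, map_one])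
      fun e => k1 ((map_eq_one_iff Φ h.inj).mp e))).symm
  have i1 := inv (1, v5) (by simp [v5_sq]) fun e => v5_ne (congrArg Prod.snd e)
  have i2 := inv (o2, v5) (by simp [v5_sq, o2_sq]) fun e => v5_ne (congrArg Prod.snd e)
  have i3 := inv (o2, 1) (by simp [o2_sq]) fun e => o2_ne (congrArg Prod.fst e)
  have i0 : χ.1 (Φ (1, 1)) = 35 := by rw [← h1]; exact congrArg _ (map_one Φ)
  obtain ⟨a1, a2, a3, a4, a5⟩ := psi4_val 1
  obtain ⟨b1, b2, b3, b4, b5⟩ := psi4_val o2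
  rw [classInner, card_K, sumK (f := fun g => χ.1 (Φ g) * conj ((triv KK5).1 g))
    fun g k => by simp [hcl _ _]] at e1
  rw [classInner, card_K, sumK (f := fun g => χ.1 (Φ g) * conj (psi4 g))
    fun g k => by simp [hcl _ _, psi4_class _ _]] at e2
  simp only [R4, Matrix.cons_val_one, Matrix.cons_val_zero, Matrix.cons_val] at hy hz hz2
  simp only [triv_apply, map_one, i0, i1, i2, i3, hy, hz, hz2, hr, a1, a2, a3, a4, a5,
    b1, b2, b3, b4, b5, map_ofNat, map_zero, map_neg] at e1 e2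
  have e3 : χ.1 (Φ (1, z5)) = 5 := by
    push_cast at e1 e2
    linear_combination (120 / 48) * e1 - (120 / 48) * e2
  have := half_integral hc (g := Φ (R4 2)) (by rw [← map_pow, R2_pow.1, map_one])
  rw [← map_pow, R2_pow.2.2.2.1, e3, show Φ (R4 2) = Φ (o2, z5) from rfl, hz, sub_zero] at this
  have := H8.int_dvd_of_isIntegral_div (a := 5) (b := 2) (by norm_num) (by simpa using this)
  omega

theorem card (h : JS t Φ) (hG : _root_.commutator G = ⊤) : Nat.card G = 175560 := by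
  choose d d0 hd using fun χ : IrrCharacter G => H8.irr_apply_one χ.2
  choose Y hY using fun χ : IrrCharacter G => gal6 (H8.irr_isCharacter χ.2) (g := Φ (R4 1))
    (by rw [← map_pow, R2_pow.2.2.1, map_one]) (h.real_R 1)
  choose P m hP hP' hPm using fun χ : IrrCharacter G => gal10 (H8.irr_isCharacter χ.2)
    (g := Φ (R4 2)) (by rw [← map_pow, R2_pow.1, map_one]) (h.real_R 2)
  simp only [← map_pow, R2_pow.2.1] at hP'
  have hT : ∀ χ ∈ B0 2 G, χ.1 t = (3 * P χ - 5 * Y χ : ℤ) := fun χ hχ => by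
    have := h.kap_zero hχ
    rw [hY, hP, hP'] at this
    push_cast
    linear_combination this
  obtain ⟨n, hn⟩ : ∃ n, n = Nat.card {z : G // IsConj t z} := ⟨_, rfl⟩
  have hcard := h.card_eq
  rw [← hn] at hcard
  have n0 : 0 < n := by have := Nat.card_pos (α := G); omega
  -- Gram matrix
  have KKs : ∀ i j, ∑ χ ∈ B0 2 G, χ.1 (Φ (R4 i)) * χ.1 (Φ (R4 j)) = KK 2 (Φ (R4 i)) (Φ (R4 j)) :=
    fun i j => Finset.sum_congr rfl fun χ _ => by rw [conj_irr_of_isConj_inv _ (h.real_R j)]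
  have k11 := (KKs 1 1).trans ((h.KK_val 1 1).trans (show _ = (4 : ℂ) by simp; norm_num))
  have k12 := (KKs 1 2).trans ((h.KK_val 1 2).trans (show _ = (2 : ℂ) by simp))
  have k13 := (KKs 1 3).trans ((h.KK_val 1 3).trans (show _ = (2 : ℂ) by simp))
  have k22 := (KKs 2 2).trans ((h.KK_val 2 2).trans (show _ = (8 : ℂ) by simp; norm_num))
  have k23 := (KKs 2 3).trans ((h.KK_val 2 3).trans (show _ = (-2 : ℂ) by simp))
  have k33 := (KKs 3 3).trans ((h.KK_val 3 3).trans (show _ = (8 : ℂ) by simp; norm_num))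
  simp only [hY, hP, hP'] at k11 k12 k13 k22 k23 k33
  have sc : ∀ (F : IrrCharacter G → ℤ) (c : ℤ), ∑ χ ∈ B0 2 G, (F χ : ℂ) = c →
      ∑ χ ∈ B0 2 G, F χ = c := fun F c e => by exact_mod_cast e
  have gYY := sc (fun χ => Y χ * Y χ) 4 (by push_cast; exact k11)
  have gYP := sc (fun χ => Y χ * P χ) 4 (by
    push_cast
    have := congrArg₂ (· + ·) k12 k13
    simp only [← Finset.sum_add_distrib] at this
    rw [show (4 : ℂ) = 2 + 2 by norm_num, ← this]
    exact Finset.sum_congr rfl fun χ _ => by ring)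
  have gYm := sc (fun χ => Y χ * m χ) 0 (by
    push_cast
    apply mul_right_cancel₀ s5_ne
    rw [zero_mul, Finset.sum_mul, ← sub_eq_zero.mpr (k12.trans k13.symm), ← Finset.sum_sub_distrib]
    exact Finset.sum_congr rfl fun χ _ => by ring)
  have gPP := sc (fun χ => P χ * P χ) 12 (by
    push_cast
    rw [show (12 : ℂ) = 8 + 8 + 2 * -2 by norm_num]
    nth_rw 1 [← k22, ← k33, ← k23]
    rw [Finset.mul_sum, ← Finset.sum_add_distrib, ← Finset.sum_add_distrib]
    exact Finset.sum_congr rfl fun χ _ => by ring)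
  have gmm := sc (fun χ => m χ * m χ) 4 (by
    push_cast
    apply mul_left_cancel₀ (show (5 : ℂ) ≠ 0 by norm_num)
    rw [show (5 * 4 : ℂ) = 8 + 8 - 2 * -2 by norm_num]
    nth_rw 1 [← k22, ← k33, ← k23]
    rw [Finset.mul_sum, Finset.mul_sum, ← Finset.sum_add_distrib, ← Finset.sum_sub_distrib]
    exact Finset.sum_congr rfl fun χ _ => by linear_combination (-(m χ : ℂ) * m χ) * s5_sq)
  have gPm := sc (fun χ => P χ * m χ) 0 (by
    push_cast
    apply mul_right_cancel₀ s5_ne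
    rw [zero_mul, Finset.sum_mul, ← sub_eq_zero.mpr (k22.trans k33.symm), ← Finset.sum_sub_distrib]
    exact Finset.sum_congr rfl fun χ _ => by ring)
  -- linear relations
  have lin : ∀ (w : IrrCharacter G → ℚ) (c1 c2 : ℚ),
      ∑ χ ∈ B0 2 G, (w χ : ℂ) * χ.1 (Φ (R4 1)) = c1 → ∑ χ ∈ B0 2 G, (w χ : ℂ) * χ.1 (Φ (R4 2)) = c2 →
      ∑ χ ∈ B0 2 G, (w χ : ℂ) * χ.1 (Φ (R4 3)) = c2 →
      ∑ χ ∈ B0 2 G, w χ * (Y χ - m χ : ℤ) = c1 ∧ ∑ χ ∈ B0 2 G, w χ * (Y χ + m χ : ℤ) = c1 ∧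
        ∑ χ ∈ B0 2 G, w χ * (P χ - Y χ : ℤ) = 2 * c2 - c1 := by
    intro w c1 c2 e1 e2 e3
    simp only [hY, hP, hP'] at e1 e2 e3
    have e4 : ∑ χ ∈ B0 2 G, (w χ : ℂ) * m χ = 0 := by
      apply mul_right_cancel₀ s5_ne
      rw [zero_mul, Finset.sum_mul, ← sub_eq_zero.mpr (e2.trans e3.symm), ← Finset.sum_sub_distrib]
      exact Finset.sum_congr rfl fun χ _ => by ring
    have e5 : ∑ χ ∈ B0 2 G, (w χ : ℂ) * P χ = 2 * c2 := by
      rw [two_mul]
      nth_rw 1 [← e2, ← e3]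
      rw [← Finset.sum_add_distrib]
      exact Finset.sum_congr rfl fun χ _ => by ring
    have f1 : ∑ χ ∈ B0 2 G, w χ * Y χ = c1 := by exact_mod_cast e1
    have f4 : ∑ χ ∈ B0 2 G, w χ * m χ = 0 := by exact_mod_cast e4
    have f5 : ∑ χ ∈ B0 2 G, w χ * P χ = 2 * c2 := by exact_mod_cast e5
    simp only [Int.cast_sub, Int.cast_add, mul_sub, mul_add, Finset.sum_sub_distrib,
      Finset.sum_add_distrib, f1, f4, f5]
    simp
  have deg : ∀ i, ∑ χ ∈ B0 2 G, ((d χ : ℚ) : ℂ) * χ.1 (Φ (R4 i)) = (0 : ℚ) := fun i => by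
    have := sum_deg_mul_eq_zero h.pt h.t1 (h.reg i) (h.comm _)
    simp only [← h.R_eq, hd] at this
    simpa using this
  have prs : ∀ i, ∑ χ ∈ B0 2 G, (((3 * P χ - 5 * Y χ : ℤ) ^ 2 / d χ : ℚ) : ℂ) * χ.1 (Φ (R4 i)) =
      ((![30, 6, 10, 10] i : ℕ) * 120 / n : ℚ) := fun i => by
    have := h.pair_eq i
    rw [← hn] at this
    push_cast
    rw [← this]
    refine Finset.sum_congr rfl fun χ hχ => ?_
    rw [hT χ hχ, hd]; push_cast; ring
  obtain ⟨D1, D2, D3⟩ := lin _ 0 0 (deg 1) (deg 2) (deg 3)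
  obtain ⟨W1, W2, W3⟩ := lin _ _ _ (prs 1) (prs 2) (prs 3)
  rw [show (![30, 6, 10, 10] 2 : ℕ) = 10 from rfl] at W3
  have cong : ∀ χ ∈ B0 2 G, ((d χ : ℤ) - (3 * P χ - 5 * Y χ)) % 8 = 0 := fun χ hχ => by
    obtain ⟨k, hk⟩ := sum_V8_nat (H8.char_comp (H8.irr_isCharacter χ.2) Φ)
    rw [h.sum_V (H8.char_isClassFunction (H8.irr_isCharacter χ.2)), hd, hT χ hχ] at hk
    have : (d χ : ℤ) + 7 * (3 * P χ - 5 * Y χ) = 8 * k := by exact_mod_cast hk
    omega
  have o1 : Y (triv G) = 1 := by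
    have := hY (triv G)
    rw [triv_apply] at this
    exact_mod_cast this.symm
  have o2' := row_eq (P' := 2) (m' := 0) ((hP (triv G)).symm.trans (by simp))
    ((hP' (triv G)).symm.trans (by simp))
  have od : d (triv G) = 1 := by
    have := hd (triv G)
    rw [triv_apply] at this
    exact_mod_cast this.symm
  obtain ⟨σ, σB, hσ⟩ := exists_sigma G
  have r30 : ∀ k : KK5, Φ k ^ 30 = 1 := fun k => by rw [← map_pow, (pow_tau k).1, map_one]
  have σd : ∀ χ, d (σ χ) = d χ := fun χ => by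
    have := hσ χ 1 (one_pow _)
    rw [one_pow, hd, hd] at this
    exact_mod_cast this
  have σY : ∀ χ, Y (σ χ) = Y χ := fun χ => by
    have := hσ χ _ (r30 (R4 1))
    rw [pow_succ, ← map_pow, R2_pow.2.2.1, map_one, one_mul, hY, hY] at this
    exact_mod_cast this
  have σP : ∀ χ, P (σ χ) = P χ ∧ m (σ χ) = -m χ := fun χ => by
    have e1 := hσ χ _ (r30 (R4 2))
    have e2 := hσ χ _ (r30 (R4 3))
    rw [← map_pow, R2_pow.2.1, hP, hP'] at e1
    have e3 : Φ (R4 3) ^ 7 = (Φ (R4 2) ^ 1)⁻¹ := by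
      refine eq_inv_of_mul_eq_one_left ?_
      rw [← R2_pow.2.1, ← map_pow, ← map_pow, ← map_mul, ← pow_mul, ← pow_add,
        show 7 * 7 + 1 = 10 * 5 from rfl, pow_mul, R2_pow.1, one_pow, map_one]
    rw [e3, char_pow_inv (H8.irr_isCharacter χ.2) (h.real_R 2), pow_one, hP', hP] at e2
    exact row_eq (by rw [e1]; push_cast; ring) (by rw [e2]; push_cast; ring)
  have bd : ∀ χ, (d χ : ℤ) * d χ ≤ 120 * n := fun χ => by
    have := sq_deg_le χ (hd χ)
    rw [hcard] at this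
    exact_mod_cast this
  obtain ⟨δ, hδ, pat⟩ := pattern (triv_mem_B0 (p := 2) (G := G))
    (fun χ => (Y χ - m χ, Y χ + m χ, P χ - Y χ)) (by simp [o1, o2'.1, o2'.2])
    (fun χ _ => by simp only; omega) (fun χ _ => by have := hPm χ; simp only; omega)
    (fun χ hχ => by
      by_cases h1 : χ = triv G
      · rw [h1]; simp [o1, o2'.1, o2'.2]
      · have := h.sec_ne hχ h1
        rw [hT χ hχ, hY, hP, hP'] at this
        intro e
        apply this
        have e2 : P χ = -Y χ := by simp only at e; omega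
        rw [e2]; push_cast; ring)
    (by simp only [sub_mul, mul_sub, Finset.sum_sub_distrib, mul_comm (m _) (Y _), gYY, gYm, gmm]
        rfl)
    (by simp only [add_mul, mul_add, Finset.sum_add_distrib, mul_comm (m _) (Y _), gYY, gYm, gmm]
        rfl)
    (by simp only [sub_mul, mul_sub, Finset.sum_sub_distrib, mul_comm (P _) (Y _), gYY, gYP, gPP]
        rfl)
    (by simp only [sub_mul, mul_add, Finset.sum_sub_distrib, Finset.sum_add_distrib,
          mul_comm (m _) (Y _), gYY, gYm, gmm]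
        rfl)
    (by simp only [sub_mul, mul_sub, Finset.sum_sub_distrib, mul_comm (m _) (Y _),
          mul_comm (m _) (P _), gYY, gYm, gYP, gPm]
        rfl)
    (by simp only [add_mul, mul_sub, Finset.sum_sub_distrib, Finset.sum_add_distrib,
          mul_comm (m _) (Y _), mul_comm (m _) (P _), gYY, gYm, gYP, gPm]
        rfl)
  -- signed degrees
  have row : ∀ χ ∈ B0 2 G, ∀ a b c : ℤ, (Y χ - m χ, Y χ + m χ, P χ - Y χ) = δ χ • (a, b, c) →
      (δ χ * d χ - (3 * c - a - b)) % 8 = 0 ∧ δ χ * d χ * (δ χ * d χ) ≤ 120 * n ∧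
      (∀ k : ℤ, (d χ : ℚ) * (δ χ * k : ℤ) = (δ χ * d χ : ℤ) * k) ∧
      (∀ k : ℤ, ((3 * P χ - 5 * Y χ : ℤ) ^ 2 / d χ : ℚ) * (δ χ * k : ℤ) =
        (3 * c - a - b) ^ 2 / (δ χ * d χ : ℤ) * k) ∧
      Y χ - m χ = δ χ * a ∧ Y χ + m χ = δ χ * b ∧ P χ - Y χ = δ χ * c := by
    intro χ hχ a b c e
    simp only [Prod.smul_mk, smul_eq_mul, Prod.mk.injEq] at e
    obtain ⟨e1, e2, e3⟩ := e
    have c1 := cong χ hχ
    have c2 := bd χ
    have c3 : 3 * P χ - 5 * Y χ = δ χ * (3 * c - a - b) := by linear_combination 3 * e3 - e1 - e2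
    rw [c3] at c1 ⊢
    refine ⟨?_, ?_, fun k => by push_cast; ring, fun k => ?_, e1, e2, e3⟩
    · rcases hδ χ hχ with e | e <;> rw [e] at c1 ⊢ <;> omega
    · rcases hδ χ hχ with e | e <;> rw [e] <;> linarith
    · rcases hδ χ hχ with e | e <;> rw [e] <;> push_cast <;> ring
  have q0 : (n : ℚ) ≠ 0 := by exact_mod_cast n0.ne'
  rcases pat with ⟨a, ha, b1, hb1, b2, hb2, c1, hc1, c2, hc2, d1, hd1, d2, hd2, ao, va, vb1, vb2,
    vc1, vc2, vd1, vd2, uq, sm⟩ | ⟨b, hb, c, hc, e, he, e1, he1, e2, he2, e3, he3, vb, vc, ve, v1,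
    v2, v3, uq, sm⟩
  · obtain ⟨a1, a2, a3, a4, a5, a6, a7⟩ := row a ha _ _ _ va
    obtain ⟨p1, p2, p3, p4, p5, p6, p7⟩ := row b1 hb1 _ _ _ vb1
    obtain ⟨q1, q2, q3, q4, q5, q6, q7⟩ := row b2 hb2 _ _ _ vb2
    obtain ⟨r1, r2, r3, r4, r5, r6, r7⟩ := row c1 hc1 _ _ _ vc1
    obtain ⟨s1, s2, s3, s4, s5', s6, s7⟩ := row c2 hc2 _ _ _ vc2
    obtain ⟨u1, u2, u3, u4, u5, u6, u7⟩ := row d1 hd1 _ _ _ vd1
    obtain ⟨w1, w2, w3, w4, w5, w6, w7⟩ := row d2 hd2 _ _ _ vd2
    rw [sm] at D1 D2 D3 W1 W2 W3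
    simp only [a5, a6, a7, p5, p6, p7, q5, q6, q7, r5, r6, r7, s5', s6, s7, u5, u6, u7, w5, w6, w7,
      a3, p3, q3, r3, s3, u3, w3, a4, p4, q4, r4, s4, u4, w4, o1, o2'.1, o2'.2, od]
      at D1 D2 D3 W1 W2 W3
    have ax : δ a * d a ≠ 1 := fun e => ao (Subtype.ext (H8.char_eq_one_of_perfect hG
      (H8.irr_isCharacter a.2) (by
        have : d a = 1 := by have := d0 a; rcases hδ a ha with e' | e' <;> rw [e'] at e <;> omega
        rw [hd, this, Nat.cast_one])))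
    have sy : δ d1 * d d1 + δ d2 * d d2 = 1 + δ a * d a := by
      have : ((δ d1 * d d1 : ℤ) : ℚ) + (δ d2 * d d2 : ℤ) = 1 + (δ a * d a : ℤ) := by
        norm_num at D1 D2 ⊢
        linarith
      exact_mod_cast this
    have su : δ b1 * d b1 + δ b2 * d b2 = 1 + δ a * d a := by
      have : ((δ b1 * d b1 : ℤ) : ℚ) + (δ b2 * d b2 : ℤ) = 1 + (δ a * d a : ℤ) := by
        norm_num at D2 D3 ⊢
        linarith
      exact_mod_cast this
    have key : ∀ χ ∈ B0 2 G, ∀ χ' ∈ B0 2 G, δ χ * d χ = -35 → δ χ' * d χ' = 21 →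
        (Y χ - m χ, Y χ + m χ, P χ - Y χ) = δ χ • ((-1, -1, 1) : ℤ × ℤ × ℤ) →
        (∀ i ∈ B0 2 G, ∀ ε : ℤ, (Y i - m i, Y i + m i, P i - Y i) = ε • ((-1, -1, 1) : ℤ × ℤ × ℤ) →
          i = χ ∨ i = χ') → False := by
      intro χ hχ χ' hχ' x1 x2 v u
      have f1 : δ χ = -1 ∧ d χ = 35 := by
        rcases hδ χ hχ with e | e <;> rw [e] at x1 <;> omega
      have f2 : d χ' = 21 := by rcases hδ χ' hχ' with e | e <;> rw [e] at x2 <;> omega
      rw [f1.1] at v
      simp only [Prod.smul_mk, smul_eq_mul, Prod.mk.injEq] at v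
      have f3 : Y χ = 1 ∧ m χ = 0 ∧ P χ = 0 := by omega
      have f4 : σ χ = χ := (u _ (σB χ hχ) (-1) (by
        rw [σY, (σP χ).1, (σP χ).2, f3.1, f3.2.1, f3.2.2]; rfl)).resolve_right fun e => by
          have := σd χ
          rw [e] at this; omega
      refine h.kill (χ := χ) (by rw [hd, f1.2]; rfl) (by rw [hT χ hχ, f3.1, f3.2.2]; norm_num)
        (by rw [hY, f3.1]; simp) (by rw [hP, f3.2.1, f3.2.2]; simp)
        (by rw [hP', f3.2.1, f3.2.2]; simp) ?_
      have := hσ χ _ (r30 (1, z5))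
      rw [f4, ← map_pow, Prod.pow_mk, R2_pow.2.2.2.2.2, one_pow] at this
      exact this.symm
    rcases num8 (x := δ a * d a) (y1 := δ d1 * d d1) (y2 := δ d2 * d d2) (u1 := δ b1 * d b1)
      (u2 := δ b2 * d b2) (n := n) (by exact_mod_cast n0) (by omega) ax (by omega) (by omega)
      (by omega) (by omega) sy su a2 u2 p2
      (by norm_num at W1 W2 ⊢; linear_combination (W1 + W2) / 2)
      (by norm_num at W2 W3 ⊢; linear_combination (W2 + W3) / 2) with e | ⟨e1, e2, e3 | e3⟩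
    · omega
    · exact (key d1 hd1 d2 hd2 e3 (by omega) vd1 uq).elim
    · exact (key d2 hd2 d1 hd1 (by omega) e3 vd2 fun i hi ε e => (uq i hi ε e).symm).elim
  · exfalso
    obtain ⟨p1, p2, p3, p4, p5, p6, p7⟩ := row b hb _ _ _ vb
    obtain ⟨q1, q2, q3, q4, q5, q6, q7⟩ := row c hc _ _ _ vc
    obtain ⟨r1, r2, r3, r4, r5, r6, r7⟩ := row e he _ _ _ ve
    obtain ⟨s1, s2, s3, s4, s5', s6, s7⟩ := row e1 he1 _ _ _ v1
    obtain ⟨u1, u2, u3, u4, u5, u6, u7⟩ := row e2 he2 _ _ _ v2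
    obtain ⟨w1, w2, w3, w4, w5, w6, w7⟩ := row e3 he3 _ _ _ v3
    have f1 : σ e1 = e2 := uq _ (σB e1 he1) (δ e1) (by
      rw [σY, (σP e1).1, (σP e1).2]
      simp only [Prod.smul_mk, smul_eq_mul, Prod.mk.injEq]
      omega)
    have f2 : δ e2 * d e2 = δ e1 * d e1 := by
      have g1 := σY e1
      have g2 := (σP e1).2
      have g3 := σd e1
      rw [f1] at g1 g2 g3
      rw [g3, show δ e2 = δ e1 by omega]
    rw [sm] at D1 D2 D3 W1 W2 W3
    simp only [p5, p6, p7, q5, q6, q7, r5, r6, r7, s5', s6, s7, u5, u6, u7, w5, w6, w7,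
      p3, q3, r3, s3, u3, w3, p4, q4, r4, s4, u4, w4, o1, o2'.1, o2'.2, od, f2]
      at D1 D2 D3 W1 W2 W3
    generalize δ b * d b = xb at *
    generalize δ c * d c = xc at *
    generalize δ e * d e = xe at *
    generalize δ e1 * d e1 = x at *
    generalize δ e3 * d e3 = q at *
    norm_num at D1 D2 D3 W1 W2 W3
    have g1 : (xe : ℚ) = 1 + 2 * x := by linarith
    have g2 : (xb : ℚ) = 1 + x + q := by linarith
    refine num7 (x := x) (q := q) (n := n) (by exact_mod_cast n0) (by omega) (by omega) w2 ?_ ?_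
    · rw [← g1]; push_cast; linear_combination (W1 + W2) / 2
    · rw [← g1, ← g2]; push_cast; linear_combination (W3 - W1) / 2

end JS

theorem exists_JS {G : Type*} [Group G] {t : G} (ht : t * t = 1) {F : Subgroup G}
    (hF : Nonempty (F ≃* alternatingGroup (Fin 5))) (htF : t ∉ F)
    (h1 : F ≤ centralizer ({t} : Set G)) (h2 : ∀ g ∈ centralizer ({t} : Set G), g ∈ F ∨ t * g ∈ F)
    (h3 : ∀ u : G, u * u = 1 → u ≠ 1 → IsConj t u) : ∃ Φ : KK5 →* G, JS t Φ := by
  obtain ⟨e⟩ := hF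
  have c : ∀ x : F, (x : G) * t = t * x := fun x => mem_centralizer_singleton_iff.mp (h1 x.2)
  let Φ : KK5 →* G := MonoidHom.mk' (fun k => (if k.1 = 1 then 1 else t) * (e.symm k.2 : G))
    fun a b => by
      rcases o2_cases a.1 with h | h <;> rcases o2_cases b.1 with h' | h' <;>
        simp only [Prod.fst_mul, Prod.snd_mul, h, h', o2_ne, o2_sq, mul_one, one_mul, if_true,
          if_false, map_mul, coe_mul, mul_assoc]
      · rw [← mul_assoc, ← c, mul_assoc]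
      · rw [← mul_assoc (e.symm a.2 : G), c, mul_assoc, ← mul_assoc t t, ht, one_mul]
  have Φ1 : ∀ x, Φ (1, x) = e.symm x := fun x => by simp [Φ]
  have Φ2 : ∀ x, Φ (o2, x) = t * e.symm x := fun x => by simp [Φ, o2_ne]
  refine ⟨Φ, (injective_iff_map_eq_one Φ).mpr fun ⟨ε, x⟩ h => ?_, by simp [tau, Φ2], ?_, h3⟩
  · rcases o2_cases ε with rfl | rfl
    · rw [Φ1] at h
      rw [e.symm.map_eq_one_iff.mp (Subtype.ext h)]; rfl
    · rw [Φ2] at h
      exact absurd (eq_inv_of_mul_eq_one_left h ▸ inv_mem (e.symm x).2) htF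
  · ext g
    constructor
    · intro hg
      rcases h2 g hg with h | h
      · exact ⟨(1, e ⟨g, h⟩), by simp [Φ1]⟩
      · exact ⟨(o2, e ⟨_, h⟩), by simp [Φ2, ← mul_assoc, ht]⟩
    · rintro ⟨⟨ε, x⟩, rfl⟩
      rcases o2_cases ε with rfl | rfl
      · rw [Φ1]; exact h1 (e.symm x).2
      · rw [Φ2]; exact mul_mem (mem_centralizer_singleton_iff.mpr rfl) (h1 (e.symm x).2)

/-- **Janko**: a perfect group with one class of involutions and involution centralizer
`⟨t⟩ × A₅` has order `175560`. -/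
theorem janko_order {G : Type*} [Group G] [Finite G] (hG : _root_.commutator G = ⊤) {t : G}
    (ht : t * t = 1) {F : Subgroup G} (hF : Nonempty (F ≃* alternatingGroup (Fin 5)))
    (htF : t ∉ F) (h1 : F ≤ centralizer ({t} : Set G))
    (h2 : ∀ g ∈ centralizer ({t} : Set G), g ∈ F ∨ t * g ∈ F)
    (h3 : ∀ u : G, u * u = 1 → u ≠ 1 → IsConj t u) : Nat.card G = 175560 := by
  haveI := Fintype.ofFinite G
  obtain ⟨Φ, h⟩ := exists_JS ht hF htF h1 h2 h3
  exact h.card hG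

end JK
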