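import Cfsg.Agent.L.BS1
import Cfsg.Agent.FT.CF2

/-! Character values on real elements of order dividing 6 or 10. -/

set_option autoImplicit false
set_option linter.unusedSectionVars false

namespace JK

open Cfsg Subgroup L

/-- a primitive fifth root of unity -/
noncomputable def ze5 : ℂ := Complex.exp (2 * Real.pi * Complex.I / (5 : ℕ))

theorem ze5_prim : IsPrimitiveRoot ze5 5 := Complex.isPrimitiveRoot_exp 5 (by norm_num)

theorem ze5_pow : ze5 ^ 5 = 1 := ze5_prim.pow_eq_one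

theorem ze5_sum : 1 + ze5 + ze5 ^ 2 + ze5 ^ 3 + ze5 ^ 4 = 0 := by
  have := ze5_prim.geom_sum_eq_zero (by norm_num)
  simpa [Finset.sum_range_succ] using this

/-- a square root of five -/
noncomputable def s5 : ℂ := ze5 + ze5 ^ 4 - ze5 ^ 2 - ze5 ^ 3

theorem s5_sq : s5 * s5 = 5 := by
  have h1 := ze5_pow
  have h2 := ze5_sum
  unfold s5
  linear_combination (-1 : ℂ) * h2 + (ze5 ^ 3 - 2 * ze5 ^ 2 - ze5 + 4) * h1

theorem s5_ne : s5 ≠ 0 := fun h => by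
  have := s5_sq
  rw [h, zero_mul] at this
  norm_num at this

variable {G : Type*} [Group G] [Finite G] {χ : G → ℂ}

theorem aut_char (h : IsCharacter G χ) (τ : ℂ →+* ℂ) {n k : ℕ} (hk : k.Coprime n)
    (hτ : ∀ z : ℂ, z ^ n = 1 → τ z = z ^ k) {x : G} (hx : x ^ n = 1) (hn : 0 < n) :
    τ (χ x) = χ (x ^ k) :=
  (FT.chr_top_iff.mpr h).vchr.aut_apply_eq_pow τ hk hτ hx hn

theorem char_pow_inv (h : IsCharacter G χ) {g : G} (hr : IsConj g g⁻¹) (k : ℕ) :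
    χ (g ^ k)⁻¹ = χ (g ^ k) := by
  obtain ⟨c, hc⟩ := isConj_iff.mp hr
  rw [← inv_pow, ← hc, conj_pow, H8.char_isClassFunction h]

theorem pow_mod {g : G} {n : ℕ} (hg : g ^ n = 1) (k : ℕ) : g ^ k = g ^ (k % n) := by
  conv_lhs => rw [← Nat.div_add_mod k n, pow_add, pow_mul, hg, one_pow, one_mul]

theorem gal6 (h : IsCharacter G χ) {g : G} (hg : g ^ 6 = 1) (hr : IsConj g g⁻¹) :
    ∃ m : ℤ, χ g = m := by
  refine (FT.chr_top_iff.mpr h).vchr.int_of_aut fun τ _ => ?_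
  obtain ⟨k, hk, hτ⟩ := FT.exists_pow_of_aut τ (n := 6) (by norm_num)
  rw [aut_char h τ hk hτ hg (by norm_num), pow_mod hg]
  have h1 : (k % 6).Coprime 6 := by
    rw [Nat.Coprime, ← Nat.gcd_rec, Nat.gcd_comm]; exact hk
  have h2 : k % 6 < 6 := Nat.mod_lt _ (by norm_num)
  have h5 : g ^ 5 = (g ^ 1)⁻¹ := eq_inv_of_mul_eq_one_left (by rw [← pow_add, hg])
  generalize k % 6 = j at h1 h2
  interval_cases j
  all_goals first | (exfalso; revert h1; decide) | skip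
  · rw [pow_one]
  · rw [h5, char_pow_inv h hr, pow_one]

theorem gal10 (h : IsCharacter G χ) {g : G} (hg : g ^ 10 = 1) (hr : IsConj g g⁻¹) :
    ∃ P m : ℤ, χ g = (P + m * s5) / 2 ∧ χ (g ^ 7) = (P - m * s5) / 2 ∧ P % 2 = m % 2 := by
  have hv := (FT.chr_top_iff.mpr h).vchr
  have hg7 : (g ^ 7) ^ 10 = 1 := by rw [← pow_mul, mul_comm, pow_mul, hg, one_pow]
  have ma := hv.mem_adjoin hg
  have mb := hv.mem_adjoin hg7
  have z10 : ze5 ^ 10 = 1 := by rw [show 10 = 5 * 2 from rfl, pow_mul, ze5_pow, one_pow]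
  have mz : ze5 ∈ Algebra.adjoin ℤ {z : ℂ | z ^ 10 = 1} := Algebra.subset_adjoin z10
  have ms : s5 ∈ Algebra.adjoin ℤ {z : ℂ | z ^ 10 = 1} :=
    sub_mem (sub_mem (add_mem mz (pow_mem mz 4)) (pow_mem mz 2)) (pow_mem mz 3)
  have e9 : χ (g ^ 9) = χ g := by
    rw [show g ^ 9 = (g ^ 1)⁻¹ from eq_inv_of_mul_eq_one_left (by rw [← pow_add, hg]),
      char_pow_inv h hr, pow_one]
  have e3 : χ (g ^ 3) = χ (g ^ 7) := by
    rw [show g ^ 3 = (g ^ 7)⁻¹ from eq_inv_of_mul_eq_one_left (by rw [← pow_add, hg]),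
      char_pow_inv h hr]
  have key : ∀ τ : ℂ →+* ℂ, (τ (χ g) = χ g ∧ τ (χ (g ^ 7)) = χ (g ^ 7) ∧ τ s5 = s5) ∨
      (τ (χ g) = χ (g ^ 7) ∧ τ (χ (g ^ 7)) = χ g ∧ τ s5 = -s5) := fun τ => by
    obtain ⟨k, hk, hτ⟩ := FT.exists_pow_of_aut τ (n := 10) (by norm_num)
    have t1 := hτ _ z10
    have z5 := ze5_pow
    rw [aut_char h τ hk hτ hg (by norm_num), aut_char h τ hk hτ hg7 (by norm_num), pow_mod hg,
      pow_mod hg7 k, ← pow_mul, pow_mod hg (7 * _)]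
    rw [← Nat.div_add_mod k 10, pow_add, pow_mul, z10, one_pow, one_mul] at t1
    simp only [s5, map_sub, map_add, map_pow, t1]
    have h1 : (k % 10).Coprime 10 := by
      rw [Nat.Coprime, ← Nat.gcd_rec, Nat.gcd_comm]; exact hk
    have h2 : k % 10 < 10 := Nat.mod_lt _ (by norm_num)
    generalize k % 10 = j at h1 h2
    interval_cases j
    all_goals first | (exfalso; revert h1; decide) | skip
    · left; simp
    · right
      refine ⟨e3, by simp, ?_⟩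
      linear_combination (ze5 ^ 7 + ze5 ^ 2 - ze5 - ze5 ^ 4) * z5
    · right
      refine ⟨rfl, e9, ?_⟩
      linear_combination (ze5 ^ 2 + ze5 ^ 23 + ze5 ^ 18 + ze5 ^ 13 + ze5 ^ 8 + ze5 ^ 3 - ze5 ^ 9
        - ze5 ^ 4 - ze5 ^ 16 - ze5 ^ 11 - ze5 ^ 6 - ze5) * z5
    · left
      refine ⟨e9, e3, ?_⟩
      linear_combination (ze5 ^ 4 + ze5 ^ 31 + ze5 ^ 26 + ze5 ^ 21 + ze5 ^ 16 + ze5 ^ 11 + ze5 ^ 6
        + ze5 - ze5 ^ 13 - ze5 ^ 8 - ze5 ^ 3 - ze5 ^ 22 - ze5 ^ 17 - ze5 ^ 12 - ze5 ^ 7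
        - ze5 ^ 2) * z5
  generalize χ g = a at *
  generalize χ (g ^ 7) = b at *
  obtain ⟨P, hP⟩ := FT.exists_int_of_mem_adjoin (by norm_num) (add_mem ma mb) fun τ _ => by
    rcases key τ with ⟨h1, h2, -⟩ | ⟨h1, h2, -⟩ <;> rw [map_add, h1, h2]; ring
  obtain ⟨Q, hQ⟩ := FT.exists_int_of_mem_adjoin (by norm_num) (mul_mem ma mb) fun τ _ => by
    rcases key τ with ⟨h1, h2, -⟩ | ⟨h1, h2, -⟩ <;> rw [map_mul, h1, h2]; ring
  obtain ⟨k, hk⟩ := FT.exists_int_of_mem_adjoin (by norm_num) (mul_mem ms (sub_mem ma mb))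
    fun τ _ => by
    rcases key τ with ⟨h1, h2, h3⟩ | ⟨h1, h2, h3⟩ <;> rw [map_mul, map_sub, h1, h2, h3]; ring
  have e1 : k * k = 5 * (P * P - 4 * Q) := by
    have : (k : ℂ) * k = 5 * (P * P - 4 * Q) := by
      rw [← hk, ← hP, ← hQ]; linear_combination (a - b) ^ 2 * s5_sq
    exact_mod_cast this
  obtain ⟨m, rfl⟩ : (5 : ℤ) ∣ k :=
    (Int.Prime.dvd_mul' (p := 5) (by norm_num) (e1 ▸ dvd_mul_right _ _)).elim id id
  have e2 : a - b = m * s5 := by
    apply mul_left_cancel₀ s5_ne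
    rw [hk]; push_cast; linear_combination (-(m : ℂ)) * s5_sq
  refine ⟨P, m, by rw [← hP, ← e2]; ring, by rw [← hP, ← e2]; ring, ?_⟩
  have e3 : 5 * (m * m) = P * P - 4 * Q := by linarith
  rcases Int.even_or_odd' m with ⟨u, rfl | rfl⟩ <;> rcases Int.even_or_odd' P with ⟨w, rfl | rfl⟩
  all_goals first | omega | (exfalso; ring_nf at e3; omega)

theorem half_integral (h : IsCharacter G χ) {g : G} (hg : g ^ 10 = 1) :
    IsIntegral ℤ ((χ (g ^ 6) - χ g) / 2) := by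
  obtain ⟨s, h1, -, h3⟩ := H8.char_exists_eigenvalues h g
  have e1 := h3 1
  have e6 := h3 6
  rw [zpow_one] at e1
  rw [show (6 : ℤ) = (6 : ℕ) from rfl, zpow_natCast] at e6
  rw [e1, e6]
  have h2 : ∀ z ∈ s, z ^ 10 = 1 := fun z hz => by
    obtain ⟨c, hc⟩ := orderOf_dvd_of_pow_eq_one hg
    rw [hc, pow_mul, h1 z hz, one_pow]
  clear h1 h3 e1 e6
  induction s using Multiset.induction_on with
  | empty => simpa using isIntegral_zero
  | cons w s ih =>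
    have hw := h2 w (Multiset.mem_cons_self _ _)
    have iw : IsIntegral ℤ w := IsIntegral.of_pow (n := 10) (by norm_num) (hw ▸ isIntegral_one)
    have ih' := ih fun z hz => h2 z (Multiset.mem_cons_of_mem hz)
    have : (w ^ 5 - 1) * (w ^ 5 + 1) = 0 := by linear_combination hw
    simp only [Multiset.map_cons, Multiset.sum_cons, zpow_one, zpow_natCast] at ih' ⊢
    rcases mul_eq_zero.mp this with e | e
    · refine (congrArg _ ?_).mp ih'
      linear_combination (-w / 2) * e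
    · refine (congrArg _ ?_).mp (ih'.sub iw)
      linear_combination (-w / 2) * e

theorem exists_sigma (G : Type*) [Group G] [Fintype G] :
    ∃ σ : IrrCharacter G → IrrCharacter G, (∀ χ, χ ∈ B0 2 G → σ χ ∈ B0 2 G) ∧
      ∀ χ g, g ^ 30 = 1 → (σ χ).1 g = χ.1 (g ^ 7) := by
  obtain ⟨τ, -, hτ⟩ := FT.exists_aut_pow (n := 30) (k := 7) (by norm_num) (by norm_num)
  refine ⟨fun χ => ⟨FT.aut τ χ.1, FT.irr_top_iff.mp ((FT.irr_top_iff.mpr χ.2).aut τ)⟩,
    fun χ hχ => ?_, fun χ g hg =>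
      aut_char (H8.irr_isCharacter χ.2) τ (by norm_num) hτ hg (by norm_num)⟩
  rw [mem_B0] at hχ ⊢
  intro e
  apply hχ
  apply τ.injective
  rw [map_zero, ← e, map_sum]
  refine Finset.sum_congr rfl fun g _ => ?_
  rw [map_mul]
  congr 1
  unfold regInd
  split_ifs <;> simp

end JK
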