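import Cfsg.Agent.JK.Loc

/-! Groups with one class of involutions and centralizer `Z₂ × A₅`: the columns of the principal
2-block. -/

set_option autoImplicit false
set_option linter.unusedSectionVars false
set_option linter.unusedVariables false

namespace JK

open Cfsg Subgroup L
open scoped ComplexConjugate Classical

variable {G : Type*} [Group G] [Fintype G]

/-- the configuration -/
structure JS (t : G) (Φ : KK5 →* G) : Prop where
  inj : Function.Injective Φ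
  tau : Φ tau = t
  cen : centralizer ({t} : Set G) = Φ.range
  one : ∀ u : G, u * u = 1 → u ≠ 1 → IsConj t u

/-- the Sylow subgroup of `Z₂ × A₅` -/
abbrev V8 : Subgroup KK5 := centralizer ({(1, v5)} : Set KK5)

theorem sum_V8 (f : KK5 → ℂ) :
    ∑ g : V8, f g = ∑ g with ((1, v5) : KK5) * g = g * (1, v5), f g :=
  (Finset.sum_subtype _ (fun g => by simp [mem_centralizer_iff]) f).symm

theorem card_V8 : Nat.card V8 = 8 := by
  rw [← card_V4, Nat.card_eq_fintype_card, Fintype.card_subtype]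
  congr 1
  ext g
  simp [mem_centralizer_iff]

theorem sum_V8_nat {ψ : KK5 → ℂ} (h : IsCharacter KK5 ψ) : ∃ m : ℕ, ∑ g : V8, ψ g = 8 * m := by
  obtain ⟨m, hm⟩ := H8.char_classInner_nat (H8.char_restrict h V8) H8.char_one
  refine ⟨m, ?_⟩
  simp only [classInner, card_V8, Pi.one_apply, map_one, mul_one] at hm
  rw [← hm]; push_cast; ring

theorem inner_eq_zero {θ : KK5 → ℂ} (h : IsCharacter KK5 θ) (h0 : ∑ g : V8, θ g = 0)
    (ψ : IrrCharacter KK5) (h1 : ∑ g : V8, ψ.1 g ≠ 0) : classInner θ ψ = 0 := by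
  obtain ⟨c, hc, e⟩ := H8.char_exists_coeff h
  choose m hm using fun φ : IrrCharacter KK5 => sum_V8_nat (H8.irr_isCharacter φ.2)
  have e1 : ∑ φ, c φ * m φ = 0 := by
    have : (8 : ℂ) * ∑ φ, (c φ : ℂ) * m φ = 0 := by
      rw [← h0, e]
      simp only [Finset.sum_apply, Pi.smul_apply, smul_eq_mul]
      rw [Finset.sum_comm, Finset.mul_sum]
      refine Finset.sum_congr rfl fun φ _ => ?_
      rw [← Finset.mul_sum, hm]; ring
    exact_mod_cast (mul_eq_zero.mp this).resolve_left (by norm_num)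
  have e2 := Finset.sum_eq_zero_iff.mp e1 ψ (Finset.mem_univ _)
  rw [hc]
  rcases mul_eq_zero.mp e2 with e3 | e3
  · rw [e3, Nat.cast_zero]
  · exact absurd (by rw [hm, e3]; simp) h1

theorem sum_V8_psi4 : ∑ g : V8, psi4 g = 8 := by
  rw [sum_V8, Finset.sum_congr rfl (g := fun g => if g.2 = 1 then 4 else 0) fun g hg => by
    rw [psi4, fx_V4 g (Finset.mem_filter.mp hg).2]; split_ifs <;> norm_num,
    Finset.sum_filter, sumK']
  rw [Finset.sum_eq_single 1, Finset.sum_eq_single 1] <;> simp +contextual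
  norm_num

theorem psi4_R : ∀ i, psi4 (R4 i) = ![4, 1, -1, -1] i := fun i => by
  obtain ⟨b1, b2, b3, b4, b5⟩ := psi4_val o2
  fin_cases i <;> simp [R4, b1, b3, b4, b5]

namespace JS

variable {t : G} {Φ : KK5 →* G}

theorem t2 (h : JS t Φ) : t * t = 1 := by
  rw [← h.tau, ← map_mul, show JK.tau * JK.tau = 1 by simp [JK.tau, o2_sq], map_one]

theorem t1 (h : JS t Φ) : t ≠ 1 := fun e => by
  have : JK.tau = 1 := h.inj (by rw [h.tau, e, map_one])
  exact o2_ne (congrArg Prod.fst this)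

theorem pt (h : JS t Φ) : PElt 2 t := ⟨1, by rw [pow_one, pow_two, h.t2]⟩

theorem mem (h : JS t Φ) {g : G} (hg : g * t = t * g) : ∃ k, Φ k = g := by
  have : g ∈ Φ.range := h.cen ▸ mem_centralizer_singleton_iff.mpr hg
  exact this

theorem comm (h : JS t Φ) (k : KK5) : Commute t (Φ k) := by
  have : Φ k ∈ centralizer ({t} : Set G) := h.cen ▸ ⟨k, rfl⟩
  exact (mem_centralizer_singleton_iff.mp this).symm

/-- the isomorphism with the centralizer -/
noncomputable def eqv (h : JS t Φ) : KK5 ≃* centralizer ({t} : Set G) :=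
  (MonoidHom.ofInjective h.inj).trans (MulEquiv.subgroupCongr h.cen.symm)

theorem eqv_coe (h : JS t Φ) (k : KK5) : (h.eqv k : G) = Φ k := rfl

theorem R_eq (h : JS t Φ) (i : Fin 4) : Φ (R4 i) = t * Φ (1, (R4 i).2) := by
  conv_lhs => rw [(R4_snd i).2, map_mul, h.tau]

theorem reg (h : JS t Φ) (i : Fin 4) : Reg 2 (Φ (1, (R4 i).2)) :=
  Reg_of_pow_eq_one (n := 15) (by norm_num) (by
    rw [← map_pow, Prod.pow_mk, (R4_snd i).1, one_pow]; exact map_one Φ)

theorem P0sec (h : JS t Φ) {θ : G → ℂ} (hθ : IsClassFunction G θ) (i : Fin 4) :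
    P0 2 θ (Φ (R4 i)) = θ (Φ (R4 i)) - kap (fun k => θ (Φ k)) * psi4 (R4 i) := by
  conv_lhs => rw [h.R_eq]
  rw [P0_res hθ h.pt (h.reg i) (h.comm _) (h.eqv (R4 i)) (h.R_eq i), P0_equiv]
  have e : R4 i = (o2, (R4 i).2) := by fin_cases i <;> rfl
  rw [e]
  exact P0_K (fun g k => by simp only [eqv_coe, map_mul, map_inv, coe_mul, coe_inv]; exact hθ _ _) _

theorem pow15 (h : JS t Φ) (i : Fin 4) : Φ (R4 i) ^ 15 = t := by rw [← map_pow, R4_pow, h.tau]

theorem conj_R (h : JS t Φ) {i j : Fin 4} (hc : IsConj (Φ (R4 i)) (Φ (R4 j))) : i = j := by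
  obtain ⟨c, hc⟩ := isConj_iff.mp hc
  have h1 : c * t * c⁻¹ = t := by rw [← h.pow15 i, ← conj_pow, hc, h.pow15, h.pow15]
  obtain ⟨k, rfl⟩ := h.mem (mul_inv_eq_iff_eq_mul.mp h1)
  exact R4_conj i j k (h.inj (by rw [map_mul, map_mul, ← hc]; group))

theorem real_R (h : JS t Φ) (i : Fin 4) : IsConj (Φ (R4 i)) (Φ (R4 i))⁻¹ := by
  obtain ⟨g, hg⟩ := R4_real i
  exact isConj_of_mul ⟨Φ g, by rw [← map_mul, hg, map_mul, map_inv]⟩

theorem card_filter (h : JS t Φ) {p : G → Prop} {q : KK5 → Prop} [DecidablePred q]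
    (h1 : ∀ g, p g → g * t = t * g) (h2 : ∀ k, p (Φ k) ↔ q k) :
    Nat.card {g // p g} = (Finset.univ.filter q).card := by
  rw [← Fintype.card_subtype, ← Nat.card_eq_fintype_card]
  refine (Nat.card_congr (Equiv.ofBijective (fun k : {k // q k} => (⟨Φ k, (h2 _).mpr k.2⟩ :
    {g // p g})) ⟨fun a b e => Subtype.ext (h.inj (congrArg Subtype.val e)), fun g => ?_⟩)).symm
  obtain ⟨k, hk⟩ := h.mem (h1 g g.2)
  exact ⟨⟨k, (h2 k).mp (hk ▸ g.2)⟩, Subtype.ext hk⟩

theorem card_cen (h : JS t Φ) (i : Fin 4) :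
    Nat.card (centralizer ({Φ (R4 i)} : Set G)) = ![120, 6, 10, 10] i := by
  rw [← R4_cen]
  refine h.card_filter (p := fun g => g ∈ centralizer ({Φ (R4 i)} : Set G)) (fun g hg => ?_)
    fun k => ?_
  · rw [← h.pow15 i]
    exact (Commute.pow_right (mem_centralizer_singleton_iff.mp hg) 15).eq
  · rw [mem_centralizer_singleton_iff, ← map_mul, ← map_mul, h.inj.eq_iff, eq_comm]

theorem KK_val (h : JS t Φ) (i j : Fin 4) : KK 2 (Φ (R4 i)) (Φ (R4 j)) =
    (if j = i then (![120, 6, 10, 10] j : ℕ) else 0 : ℂ) - ![8, 2, -2, -2] j * ![4, 1, -1, -1] i := by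
  have e : ∀ i, ∑ χ : IrrCharacter G, conj (χ.1 (Φ (R4 j))) * χ.1 (Φ (R4 i)) =
      (if j = i then (![120, 6, 10, 10] j : ℕ) else 0 : ℂ) := fun i => by
    rw [sum_conj_mul_eq, h.card_cen]
    exact if_congr ⟨h.conj_R, fun e => e ▸ IsConj.refl _⟩ rfl rfl
  rw [KK_eq_P0, h.P0sec (class_sum_irr _), psi4_R, kap, e, e, e, e, e]
  fin_cases j <;> simp <;> norm_num

theorem kap_zero (h : JS t Φ) {χ : IrrCharacter G} (hχ : χ ∈ B0 2 G) :
    χ.1 t + 5 * χ.1 (Φ (R4 1)) = 3 * (χ.1 (Φ (R4 2)) + χ.1 (Φ (R4 3))) := by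
  have := h.P0sec (H8.char_isClassFunction (H8.irr_isCharacter χ.2)) 1
  rw [P0_irr hχ, psi4_R, kap, show Φ (R4 0) = t from h.tau] at this
  simp only [Matrix.cons_val_one, Matrix.cons_val_zero] at this
  linear_combination 15 * this

theorem card_eq (h : JS t Φ) : Nat.card G = 120 * Nat.card {z : G // IsConj t z} := by
  rw [← H8.index_centralizer_eq, ← card_K, Nat.card_congr h.eqv.toEquiv, card_mul_index]

theorem pairs (h : JS t Φ) (i : Fin 4) :
    Nat.card {p : G × G // IsConj t p.1 ∧ IsConj t p.2 ∧ p.1 * p.2 = Φ (R4 i)} =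
      ![30, 6, 10, 10] i := by
  have inv : ∀ u : G, IsConj t u ↔ u * u = 1 ∧ u ≠ 1 := fun u =>
    ⟨fun hu => by
      obtain ⟨c, rfl⟩ := isConj_iff.mp hu
      exact ⟨by rw [conj_mul, h.t2]; group, fun e => h.t1 (by simpa using e)⟩,
      fun hu => h.one u hu.1 hu.2⟩
  rw [← R4_pairs, ← h.card_filter (p := fun a => a * a = 1 ∧ a ≠ 1 ∧
    (a * Φ (R4 i)) * (a * Φ (R4 i)) = 1 ∧ a * Φ (R4 i) ≠ 1) (fun a ha => ?_) fun k => ?_]
  · refine Nat.card_congr ⟨fun p => ⟨p.1.1, ?_⟩, fun a => ⟨(a.1, a.1 * Φ (R4 i)), ?_⟩,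
      fun p => ?_, fun a => rfl⟩
    · obtain ⟨⟨a, b⟩, h1, h2, h3⟩ := p
      rw [inv] at h1 h2
      have : a * Φ (R4 i) = b := by rw [← h3, ← mul_assoc, h1.1, one_mul]
      exact ⟨h1.1, h1.2, this ▸ h2.1, this ▸ h2.2⟩
    · obtain ⟨a, h1, h2, h3, h4⟩ := a
      exact ⟨(inv _).mpr ⟨h1, h2⟩, (inv _).mpr ⟨h3, h4⟩, by rw [← mul_assoc, h1, one_mul]⟩
    · obtain ⟨⟨a, b⟩, h1, h2, h3⟩ := p
      refine Subtype.ext (Prod.ext rfl ?_)
      change a * Φ (R4 i) = b
      rw [← h3, ← mul_assoc, ((inv _).mp h1).1, one_mul]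
  · have e : a * Φ (R4 i) * a⁻¹ = (Φ (R4 i))⁻¹ := by
      rw [inv_eq_of_mul_eq_one_right ha.1]
      exact eq_inv_of_mul_eq_one_left (by rw [← ha.2.2.1]; group)
    have : a * t * a⁻¹ = t := by
      rw [← h.pow15 i, ← conj_pow, e, inv_pow, h.pow15, inv_eq_of_mul_eq_one_right h.t2]
    exact mul_inv_eq_iff_eq_mul.mp this
  · simp only [← map_mul, ne_eq, map_eq_one_iff Φ h.inj]

theorem pair_eq (h : JS t Φ) (i : Fin 4) :
    ∑ χ ∈ B0 2 G, χ.1 t ^ 2 / χ.1 1 * χ.1 (Φ (R4 i)) =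
      (![30, 6, 10, 10] i : ℕ) * 120 / Nat.card {z : G // IsConj t z} := by
  have n0 : (Nat.card {z : G // IsConj t z} : ℂ) ≠ 0 := by
    have : Nonempty {z : G // IsConj t z} := ⟨⟨t, IsConj.refl t⟩⟩
    exact Nat.cast_ne_zero.mpr Nat.card_pos.ne'
  have e : ∀ i, ∑ χ : IrrCharacter G, χ.1 t ^ 2 / χ.1 1 * χ.1 (Φ (R4 i)) =
      (![30, 6, 10, 10] i : ℕ) * 120 / Nat.card {z : G // IsConj t z} := fun i => by
    have h1 := H8.card_pairs_mul_eq t t (Φ (R4 i))
    rw [h.pairs, h.card_eq] at h1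
    simp only [conj_irr_of_isConj_inv _ (h.real_R i)] at h1
    rw [h1]
    have : ∑ χ : IrrCharacter G, χ.1 t ^ 2 / χ.1 1 * χ.1 (Φ (R4 i)) =
        ∑ χ : IrrCharacter G, χ.1 t * χ.1 t * χ.1 (Φ (R4 i)) / χ.1 1 :=
      Finset.sum_congr rfl fun χ _ => by ring
    rw [this]
    push_cast
    field_simp
  rw [← P0_sum_irr, h.P0sec (class_sum_irr _), kap, e, e, e, e, e]
  simp
  field_simp
  norm_num

theorem sum_V (h : JS t Φ) {χ : G → ℂ} (hχ : IsClassFunction G χ) :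
    ∑ g : V8, χ (Φ g) = χ 1 + 7 * χ t := by
  rw [sum_V8 (fun g => χ (Φ g)), Finset.sum_congr rfl
    (g := fun g => χ t + if g = 1 then χ 1 - χ t else 0) fun g hg => by
      split_ifs with h1
      · rw [h1, map_one]; ring
      · rw [add_zero]
        exact (H8.IsClassFunction_apply_of_isConj hχ (h.one _ (by
          rw [← map_mul, V4_sq g (Finset.mem_filter.mp hg).2, map_one])
          fun e => h1 ((map_eq_one_iff Φ h.inj).mp e))).symm,
    Finset.sum_add_distrib, Finset.sum_const, card_V4, Finset.sum_ite_eq']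
  simp
  ring

theorem sec_ne (h : JS t Φ) {χ : IrrCharacter G} (hχ : χ ∈ B0 2 G) (h1 : χ ≠ triv G) :
    χ.1 t + 20 * χ.1 (Φ (R4 1)) + 12 * χ.1 (Φ (R4 2)) + 12 * χ.1 (Φ (R4 3)) ≠ 0 := by
  intro h0
  have hcl := H8.char_isClassFunction (H8.irr_isCharacter χ.2)
  let θ : centralizer ({t} : Set G) → ℂ := fun c => if (c : G) ^ 15 = t then 1 else 0
  have hθ : IsClassFunction _ θ := fun g k => by
    have hk := mem_centralizer_singleton_iff.mp k.2
    refine if_congr ?_ rfl rfl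
    rw [coe_mul, coe_mul, coe_inv, conj_pow, mul_inv_eq_iff_eq_mul, ← hk, mul_right_inj]
  have e1 : ∀ g, indFun _ θ g = 1 - regInd 2 g := fun g => by
    unfold regInd
    split_ifs with hg
    · rw [sub_self]
      refine H8.indFun_apply_of_forall_not_mem _ θ fun x hx => if_neg fun e => h.t1 ?_
      refine eq_one_of_PElt_Reg h.pt (e ▸ Reg.pow ?_ 15)
      have := (Reg_conj (p := 2) (y := g) x⁻¹).mpr hg
      rwa [inv_inv] at this
    · rw [sub_zero]
      obtain ⟨w, hw⟩ : 2 ∣ orderOf g := by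
        by_contra h2
        exact hg (Reg_iff_not_dvd.mpr h2)
      have w0 : 0 < w := by have := orderOf_pos g; omega
      obtain ⟨c, hc⟩ := isConj_iff.mp (h.one (g ^ w) (by
        rw [← pow_add, ← two_mul, ← hw, pow_orderOf_eq_one])
        (pow_ne_one_of_lt_orderOf w0.ne' (by omega)))
      have h2 : (c⁻¹ * g * c⁻¹⁻¹) ^ w = t := by rw [conj_pow, ← hc]; group
      obtain ⟨k, hk⟩ := h.mem (g := c⁻¹ * g * c⁻¹⁻¹) (by rw [← h2]; exact (Commute.self_pow _ _).eq)
      have h3 : k ^ w = JK.tau := h.inj (by rw [map_pow, hk, h2, h.tau])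
      have h4 : k ^ 15 = JK.tau := by
        rcases (pow_tau k).2 with e | e | e
        · exact e
        · exfalso
          have := R4_pow 0
          rw [show R4 0 = JK.tau from rfl, ← h3, ← pow_mul, mul_comm, pow_mul, e, one_pow] at this
          exact o2_ne (congrArg Prod.fst (h3.symm.trans this.symm))
        · have e2 : k ^ 2 = 1 := by rw [pow_two, e]
          rw [pow_mod e2] at h3 ⊢
          rcases Nat.mod_two_eq_zero_or_one w with e3 | e3 <;> rw [e3] at h3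
          · exact absurd (congrArg Prod.fst h3).symm o2_ne
          · exact h3
      have h5 : ((h.eqv k : centralizer ({t} : Set G)) : G) ^ 15 = t := by
        rw [eqv_coe, ← map_pow, h4, h.tau]
      rw [← H8.indFun_isClassFunction _ θ g c⁻¹, ← hk, ← h.eqv_coe,
        H8.indFun_apply_of_TI _ {g | g ^ 15 = t} (fun s hs x hx => ?_) hθ
          (fun c hc => if_neg hc) _ h5]
      · exact if_pos h5
      · have e : (x⁻¹ * s * x⁻¹⁻¹) ^ 15 = t := by rw [inv_inv]; exact hx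
        rw [conj_pow, show s ^ 15 = t from hs, inv_inv] at e
        rw [mem_centralizer_singleton_iff]
        conv_lhs => rw [← e]
        group
  have e2 := H8.sum_indFun_mul _ θ hcl
  have e3 : ∑ c, θ c * χ.1 c = 0 := by
    rw [← Equiv.sum_comp h.eqv.toEquiv]
    change ∑ k, θ (h.eqv k) * χ.1 (h.eqv k) = 0
    rw [sumK (f := fun k => θ (h.eqv k) * χ.1 (h.eqv k))
      fun g k => by
        rw [map_mul, map_mul, map_inv, hθ, coe_mul, coe_mul, coe_inv, hcl]]
    have e4 : ∀ k, θ (h.eqv k) = if k ^ 15 = JK.tau then 1 else 0 := fun k =>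
      if_congr (by rw [eqv_coe, ← map_pow, ← h.tau, h.inj.eq_iff]) rfl rfl
    obtain ⟨p1, p2, p3, p4, p5, p6⟩ := JK.pow15
    have q0 : (o2, (1 : A5)) ^ 15 = JK.tau := R4_pow 0
    have q1 : (o2, y5) ^ 15 = JK.tau := R4_pow 1
    have q2 : (o2, z5) ^ 15 = JK.tau := R4_pow 2
    have q3 : (o2, z5 * z5) ^ 15 = JK.tau := R4_pow 3
    simp only [e4, if_neg p1, if_neg p2, if_neg p3, if_neg p4, if_neg p5, if_neg p6, if_pos q0,
      if_pos q1, if_pos q2, if_pos q3, eqv_coe, show Φ (o2, 1) = t from h.tau]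
    simpa [R4] using h0
  rw [e3, mul_zero] at e2
  refine mem_B0.mp hχ ?_
  simp only [e1, sub_mul, one_mul, Finset.sum_sub_distrib, sum_irr_eq_zero h1] at e2
  simpa using e2

end JS

end JK
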