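import Cfsg.Agent.JK.Gal
import Cfsg.Agent.JK.A5

/-! The principal 2-block of `Z₂ × A₅`. -/

set_option autoImplicit false
set_option linter.unusedSectionVars false

namespace JK

open Cfsg Subgroup L
open scoped ComplexConjugate

/-- the character of degree four -/
noncomputable def psi4 (k : KK5) : ℂ := (fx k.2 : ℂ) - 1
/-- the sign character -/
noncomputable def lam : KK5 →* ℂ where
  toFun k := if k.1 = 1 then 1 else -1
  map_one' := by simp
  map_mul' a b := by
    rcases o2_cases a.1 with h | h <;> rcases o2_cases b.1 with h' | h' <;>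
      simp [h, h', o2_ne, o2_sq]

theorem psi4_gen : IsGeneralizedCharacter KK5 psi4 := by
  have h := H8.genChar_sub (H8.genChar_of_char (H8.char_comp (H8.char_perm (G := A5) (Fin 5))
    (MonoidHom.snd (Multiplicative (ZMod 2)) A5))) H8.genChar_one
  convert h using 1
  funext k
  simp [psi4, ← card_fixedBy]

theorem psi4_class : IsClassFunction KK5 psi4 := H8.genChar_isClassFunction psi4_gen

theorem psi4_val (e : Multiplicative (ZMod 2)) : psi4 (e, 1) = 4 ∧ psi4 (e, v5) = 0 ∧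
    psi4 (e, y5) = 1 ∧ psi4 (e, z5) = -1 ∧ psi4 (e, z5 * z5) = -1 := by
  obtain ⟨h1, h2, h3, h4, h5⟩ := fx_val
  simp only [psi4, h1, h2, h3, h4, h5]
  norm_num

theorem conj_psi4 (k : KK5) : conj (psi4 k) = psi4 k := by simp [psi4]

theorem psi4_irr : IsIrrCharacter KK5 psi4 := by
  obtain ⟨h1, h2, h3, h4, h5⟩ := psi4_val 1
  obtain ⟨k1, k2, k3, k4, k5⟩ := psi4_val o2
  refine H8.irr_of_genChar_norm_one psi4_gen ?_ ?_
  · rw [classInner, card_K, sumK (f := fun g => psi4 g * conj (psi4 g))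
      fun g h => by rw [psi4_class]]
    simp only [h1, h2, h3, h4, h5, k1, k2, k3, k4, k5, map_ofNat]
    norm_num
  · rw [show (1 : KK5) = (1, 1) from rfl, h1]; norm_num

theorem reg_val : Reg 2 ((1, 1) : KK5) ∧ Reg 2 ((1, y5) : KK5) ∧ Reg 2 ((1, z5) : KK5) ∧
    Reg 2 ((1, z5 * z5) : KK5) ∧ ¬ Reg 2 ((1, v5) : KK5) ∧ ∀ x, ¬ Reg 2 ((o2, x) : KK5) := by
  have hz : Reg 2 ((1, z5) : KK5) :=
    Reg_of_pow_eq_one (n := 5) (by norm_num) (by simp [z5_pow])
  refine ⟨Reg_one, Reg_of_pow_eq_one (n := 3) (by norm_num) (by simp [y5_pow]), hz, ?_,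
    fun h => ?_, fun x h => ?_⟩
  · simpa [pow_two] using hz.pow 2
  · have := eq_one_of_PElt_Reg (p := 2) ⟨1, by simp [pow_two, v5_sq]⟩ h
    exact v5_ne (congrArg Prod.snd this)
  · have h1 := h.map (MonoidHom.fst _ _)
    exact o2_ne (eq_one_of_PElt_Reg (p := 2) ⟨1, by simp [pow_two, o2_sq]⟩ h1)

theorem sum_reg {ψ : KK5 → ℂ} (h : IsClassFunction KK5 ψ) : ∑ g, regInd 2 g * ψ g =
    ψ (1, 1) + 20 * ψ (1, y5) + 12 * ψ (1, z5) + 12 * ψ (1, z5 * z5) := by
  obtain ⟨h1, h2, h3, h4, h5, h6⟩ := reg_val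
  rw [sumK (f := fun g => regInd 2 g * ψ g) fun g k => by rw [regInd_class, h]]
  simp [regInd, h1, h2, h3, h4, h5, h6]

theorem tau_central : tau ∈ center KK5 := mem_center_iff.mpr fun g => by
  ext <;> simp [tau, mul_comm]

theorem isConj_of_mul {G : Type*} [Group G] {x y : G} (h : ∃ g, g * x = y * g) : IsConj x y := by
  obtain ⟨g, hg⟩ := h
  exact isConj_iff.mpr ⟨g, by rw [hg, mul_inv_cancel_right]⟩

theorem extK {f g : KK5 → ℂ} (hf : IsClassFunction KK5 f) (hg : IsClassFunction KK5 g)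
    (h : ∀ e i, f (e, rep5 i) = g (e, rep5 i)) : f = g := by
  funext ⟨e, x⟩
  exact (eq_rep (f := fun x => f (e, x)) (class_snd hf e) x).trans
    ((h _ _).trans (eq_rep (f := fun x => g (e, x)) (class_snd hg e) x).symm)

theorem not_mem_B0 {ψ : KK5 → ℂ} (h : IsIrrCharacter KK5 ψ) (h0 : ∑ g, regInd 2 g * ψ g = 0) :
    ψ = psi4 ∨ ψ = psi4 * lam := by
  have hc := H8.irr_isCharacter h
  have hcl := H8.char_isClassFunction hc
  rw [sum_reg hcl] at h0
  obtain ⟨ζ, hζ, hs⟩ := H8.irr_central_scalar h tau_central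
  have hζ2 : ζ * ζ = 1 := by
    have h1 := hs (tau * 1)
    rw [hs 1, ← mul_assoc, show tau * tau = 1 by simp [tau, o2_sq], one_mul, ← mul_assoc] at h1
    exact mul_right_cancel₀ (H8.irr_apply_one_ne_zero h) (by rw [← h1, one_mul])
  have hs' : ∀ x, ψ (o2, x) = ζ * ψ (1, x) := fun x => by rw [← hs]; simp [tau]
  have hF := H8.char_comp hc (MonoidHom.inr (Multiplicative (ZMod 2)) A5)
  simp only [MonoidHom.inr_apply] at hF
  obtain ⟨n, hn0, hn⟩ := H8.irr_apply_one h
  rw [show (1 : KK5) = (1, 1) from rfl] at hn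
  obtain ⟨Y, hY⟩ := gal6 hF (g := y5) (by rw [show 6 = 3 * 2 from rfl, pow_mul, y5_pow, one_pow])
    (isConj_of_mul y5_real)
  obtain ⟨P, m, h1, h2, hPm⟩ := gal10 hF (g := z5)
    (by rw [show 10 = 5 * 2 from rfl, pow_mul, z5_pow, one_pow]) (isConj_of_mul z5_real)
  rw [R2_pow.2.2.2.2.2] at h2
  obtain ⟨k, hk⟩ := H8.char_classInner_nat hF H8.char_one
  rw [classInner, sumA (f := fun g => ψ (1, g) * conj ((1 : A5 → ℂ) g))
    (fun g k => by simp [class_snd hcl]), Nat.card_eq_fintype_card, card_A5] at hk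
  simp only [Pi.one_apply, map_one, mul_one] at hk
  have hv : ψ (1, v5) = 4 * k := by
    push_cast at hk
    linear_combination 4 * hk - h0 / 15
  have hN := H8.irr_classInner_self h
  rw [classInner, card_K, sumK (f := fun g => ψ g * conj (ψ g)) fun g k => by rw [hcl]] at hN
  have cζ : conj ζ = ζ := by
    rcases mul_self_eq_one_iff.mp hζ2 with e | e <;> simp [e]
  have cz : conj (ψ (1, z5)) = ψ (1, z5) := by
    rw [H8.char_conj_eq hF]; simpa using char_pow_inv hF (isConj_of_mul z5_real) 1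
  have cz2 : conj (ψ (1, z5 * z5)) = ψ (1, z5 * z5) := by
    rw [H8.char_conj_eq hF]; simpa [pow_two] using char_pow_inv hF (isConj_of_mul z5_real) 2
  simp only [hs', map_mul, cζ, cz, cz2] at hN
  simp only [hn, hY, hv, h1, h2, map_natCast, map_intCast, map_mul, map_ofNat] at hN h0
  have e1 : (n : ℤ) + 20 * Y + 12 * P = 0 := by
    have : (n : ℂ) + 20 * Y + 12 * P = 0 := by linear_combination h0
    exact_mod_cast this
  have e2 : (n : ℤ) * n + 240 * (k * k) + 20 * (Y * Y) + 6 * (P * P) + 30 * (m * m) = 60 := by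
    have : (n : ℂ) * n + 240 * (k * k) + 20 * (Y * Y) + 6 * (P * P) + 30 * (m * m) = 60 := by
      push_cast at hN
      linear_combination 60 * hN - (n * n + 240 * (k * k) + 20 * (Y * Y) + 6 * (P * P) +
        6 * (m * m) * s5 * s5) / 2 * hζ2 - 6 * (m * m) * s5_sq
    exact_mod_cast this
  have q1 := mul_self_nonneg (n : ℤ)
  have q2 := mul_self_nonneg (k : ℤ)
  have q3 := mul_self_nonneg Y
  have q4 := mul_self_nonneg P
  have q5 := mul_self_nonneg m
  have k0 : k = 0 := by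
    by_contra hk0
    have : (1 : ℤ) ≤ k := by omega
    nlinarith
  have n7 : n < 8 := by
    by_contra hn8
    have : (8 : ℤ) ≤ n := by omega
    nlinarith
  have n4 : n = 4 := by omega
  have Y2 : Y < 2 := by nlinarith
  have Y3 : -2 < Y := by nlinarith
  have Y1 : Y = 1 := by omega
  have P2 : P = -2 := by omega
  subst k0 n4 Y1 P2
  have m0 : m = 0 := by nlinarith
  subst m0
  obtain ⟨a1, a2, a3, a4, a5⟩ := psi4_val 1
  obtain ⟨b1, b2, b3, b4, b5⟩ := psi4_val o2
  have val : ∀ i, ψ (1, rep5 i) = psi4 (1, rep5 i) := fun i => by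
    fin_cases i <;> simp [rep5, hn, hv, hY, h1, h2, a1, a2, a3, a4, a5]
  have val2 : ∀ x, psi4 (o2, x) = psi4 (1, x) := fun _ => rfl
  rcases mul_self_eq_one_iff.mp hζ2 with e | e
  · left
    refine extK hcl psi4_class fun ε i => ?_
    rcases o2_cases ε with rfl | rfl
    · exact val i
    · rw [hs', e, one_mul, val, val2]
  · right
    refine extK hcl (H8.char_isClassFunction (H8.irr_isCharacter (H8.irr_mul_hom psi4_irr lam)))
      fun ε i => ?_
    rcases o2_cases ε with rfl | rfl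
    · simp [lam, val]
    · rw [hs', e, val]; simp [lam, o2_ne, val2]

/-- the coefficient of the character of degree four on the section -/
noncomputable def kap (θ : KK5 → ℂ) : ℂ :=
  (4 * θ (R4 0) + 20 * θ (R4 1) - 12 * θ (R4 2) - 12 * θ (R4 3)) / 60

theorem P0_K {θ : KK5 → ℂ} (hθ : IsClassFunction KK5 θ) (x : A5) :
    P0 2 θ (o2, x) = θ (o2, x) - kap θ * psi4 (o2, x) := by
  classical
  let a : IrrCharacter KK5 := ⟨psi4, psi4_irr⟩
  let b : IrrCharacter KK5 := ⟨psi4 * lam, H8.irr_mul_hom psi4_irr lam⟩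
  obtain ⟨a1, a2, a3, a4, a5⟩ := psi4_val 1
  obtain ⟨b1, b2, b3, b4, b5⟩ := psi4_val o2
  have hab : a ≠ b := fun e => by
    have := congrFun (congrArg Subtype.val e) (o2, 1)
    simp [a, b, lam, o2_ne, b1] at this
    norm_num at this
  have hB : (B0 2 KK5)ᶜ = {a, b} := by
    ext ψ
    rw [Finset.mem_compl, mem_B0, not_not, Finset.mem_insert, Finset.mem_singleton]
    constructor
    · intro h
      exact (not_mem_B0 ψ.2 h).imp Subtype.ext Subtype.ext
    · rintro (rfl | rfl)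
      · rw [sum_reg psi4_class, a1, a3, a4, a5]; norm_num
      · rw [sum_reg (H8.char_isClassFunction (H8.irr_isCharacter b.2))]
        simp [b, lam, a1, a3, a4, a5]; norm_num
  rw [H8.classFun_apply_eq_sum hθ (o2, x), ← Finset.sum_add_sum_compl (B0 2 KK5), hB,
    Finset.sum_pair hab, P0]
  have e1 := sumK (f := fun g => θ g * conj (a.1 g)) fun g k => by
    rw [hθ, H8.char_isClassFunction (H8.irr_isCharacter a.2)]
  have e2 := sumK (f := fun g => θ g * conj (b.1 g)) fun g k => by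
    rw [hθ, H8.char_isClassFunction (H8.irr_isCharacter b.2)]
  simp only [classInner, card_K, e1, e2]
  simp [a, b, lam, o2_ne, a1, a2, a3, a4, a5, b1, b2, b3, b4, b5, kap, R4, map_ofNat]
  ring

variable {H : Type*} [Group H] [Fintype H]

theorem P0_equiv (e : KK5 ≃* H) (θ : H → ℂ) (k : KK5) :
    P0 2 θ (e k) = P0 2 (fun k => θ (e k)) k := by
  refine Finset.sum_nbij' (fun ψ => ⟨fun k => ψ.1 (e k),
      H8.irr_comp_surjective ψ.2 e.toMonoidHom e.surjective⟩)
    (fun ψ => ⟨fun h => ψ.1 (e.symm h),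
      H8.irr_comp_surjective ψ.2 e.symm.toMonoidHom e.symm.surjective⟩) ?_ ?_ ?_ ?_ ?_
  · intro ψ hψ
    rw [mem_B0] at hψ ⊢
    rw [← Equiv.sum_comp e.toEquiv] at hψ
    simpa [regInd, Reg] using hψ
  · intro ψ hψ
    rw [mem_B0] at hψ ⊢
    rw [← Equiv.sum_comp e.toEquiv]
    simpa [regInd, Reg] using hψ
  · intro ψ _; ext; simp
  · intro ψ _; ext; simp
  · intro ψ _
    simp only [classInner]
    rw [← Equiv.sum_comp e.toEquiv, Nat.card_congr e.toEquiv]
    rfl

end JK
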